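import Cfsg.Agent.Lib.SectionalThree.Setup

/-!
# Automorphisms on the centre

* `fix_center_of_pk` : automorphisms of `p`-power order in `Aut_F(S)` fix the centre;
* `line_fixed` : with a diagonal automorphism on a central plane, the fixed line is invariant and the only one.
-/

set_option autoImplicit false
set_option linter.unusedSectionVars false
set_option linter.style.haveILetI false
set_option maxHeartbeats 1000000

namespace Cfsg.Agent.SectionalThree

open Cfsg Cfsg.FusionSystem Cfsg.Agent.Fusion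

universe u

variable {p : ℕ} [hp : Fact p.Prime]

theorem fix_center_of_pk {Ω : Type u} [Group Ω] {S : Subgroup Ω} [Finite S] {F : FusionSystem S}
    (hS : IsPGroup p S) (hF : F.IsSaturated p) {σ : MulAut S} (hσ : σ ∈ F.autGroup S) {k : ℕ}
    (hk : σ ^ p ^ k = 1) {v : S} (hv : v ∈ Subgroup.center S) : σ v = v := by
  haveI := finite_mulAut (S := S) (P := S) le_rfl
  have hsyl := (isFullyAutomized_iff.1 (fullyAutomized_of_fullyNormalized hS hF (isFullyNormalized_self F))).2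
  set I := autInducedBy S S with hI
  have hIp : IsPGroup p I := isPGroup_autInducedBy hS
  have hσp : IsPGroup p (Subgroup.zpowers σ) := by
    rintro ⟨y, hy⟩
    obtain ⟨i, rfl⟩ := Subgroup.mem_zpowers_iff.1 hy
    exact ⟨k, Subtype.ext (show (σ ^ i) ^ p ^ k = 1 by
      rw [← zpow_natCast, ← zpow_mul, mul_comm, zpow_mul, zpow_natCast, hk, one_zpow])⟩
  have hnorm : Subgroup.zpowers σ ≤ Subgroup.normalizer (I : Set (MulAut S)) := by
    refine Subgroup.zpowers_le.2 (RankThreeEss.mem_normalizer_iff_of_finite.2 fun β hβ => ?_)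
    obtain ⟨g, hg, e⟩ := mem_autInducedBy_iff.1 hβ
    refine mem_autInducedBy_iff.2 ⟨σ ⟨g, hg⟩, (σ ⟨g, hg⟩).2, fun x => ?_⟩
    obtain ⟨x, rfl⟩ := σ.surjective x
    rw [MulAut.mul_apply, MulAut.mul_apply, MulAut.inv_apply_self]
    have : β x = ⟨g, hg⟩ * x * (⟨g, hg⟩ : S)⁻¹ := Subtype.ext (by simpa using e x)
    rw [this, map_mul, map_mul, map_inv]
    rfl
  have hsup := hIp.to_sup_of_normal_left' hσp hnorm
  have heq := hsyl.2.2 _ le_sup_left (sup_le hsyl.le (Subgroup.zpowers_le.2 hσ)) hsup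
  obtain ⟨g, hg, e⟩ := mem_autInducedBy_iff.1 (heq.le (Subgroup.mem_sup_right (Subgroup.mem_zpowers σ)))
  refine Subtype.ext ((e v).trans ?_)
  have h := congrArg Subtype.val (Subgroup.mem_center_iff.1 hv ⟨g, hg⟩)
  rw [show g * (v : Ω) = v * g from h, mul_inv_cancel_right]

theorem line_fixed {P : Type*} [Group P] [Finite P] (𝒜 : Subgroup (MulAut P))
    (hfix : ∀ σ ∈ 𝒜, (∃ k : ℕ, σ ^ p ^ k = 1) → ∀ v ∈ Subgroup.center P, σ v = v)
    {z c : P} (hzc : z ∈ Subgroup.center P) (hcc : c ∈ Subgroup.center P) (hzp : z ^ p = 1) (hcp : c ^ p = 1)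
    (hz : ∀ σ ∈ 𝒜, σ z ∈ Subgroup.zpowers z)
    (hdec : ∀ v ∈ Subgroup.center P, ∃ j k : ℕ, v = z ^ j * c ^ k)
    (hind : ∀ j k j' k' : ℕ, z ^ j * c ^ k = z ^ j' * c ^ k' → (j : ZMod p) = j' ∧ (k : ZMod p) = k')
    {τ : MulAut P} (hτ : τ ∈ 𝒜) {l : ℕ} (hτz : τ z = z ^ l) (hτc : τ c = c) (hl : (l : ZMod p) ≠ 1) :
    (∀ σ ∈ 𝒜, σ c ∈ Subgroup.zpowers c) ∧
      ∀ e ∈ Subgroup.center P, e ∉ Subgroup.zpowers z → (∀ σ ∈ 𝒜, σ e ∈ Subgroup.zpowers e) →
        e ∈ Subgroup.zpowers c := by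
  have hZc : Commute z c := Subgroup.mem_center_iff.1 hcc z
  have hdrop : ∀ j k : ℕ, (j : ZMod p) = 0 → z ^ j * c ^ k ∈ Subgroup.zpowers c := fun j k hj => by
    rw [(orderOf_dvd_iff_pow_eq_one).1 (dvd_trans (orderOf_dvd_of_pow_eq_one hzp) ((ZMod.natCast_eq_zero_iff _ _).1 hj)),
      one_mul]
    exact pow_mem (Subgroup.mem_zpowers c) k
  refine ⟨fun σ hσ => ?_, fun e he hez hein => ?_⟩
  · obtain ⟨j, hj⟩ : ∃ j : ℕ, z ^ j = σ z := mem_powers_iff_mem_zpowers.2 (hz σ hσ)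
    obtain ⟨r, k, hw⟩ := hdec (σ c) ((Subgroup.characteristic_iff_comap_eq.1 inferInstance σ).ge hcc)
    set w := σ c with hwdef
    have hτw : τ w = z ^ (l * r) * c ^ k := by rw [hw, map_mul, map_pow, map_pow, hτz, hτc, ← pow_mul]
    set κ := τ * σ * τ⁻¹ * σ⁻¹ with hκ
    have hκA : κ ∈ 𝒜 := mul_mem (mul_mem (mul_mem hτ hσ) (inv_mem hτ)) (inv_mem hσ)
    have hκτσ : ∀ v, κ (σ (τ v)) = τ (σ v) := fun v => by
      simp only [hκ, MulAut.mul_apply, MulAut.inv_apply_self]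
    have hκw : κ w = τ w := by
      have := hκτσ c
      rwa [hτc] at this
    have hκz : κ z = z := by
      -- `κ` fixes the image of `z` under an automorphism
      have h1 : σ (τ z) = τ (σ z) := by rw [hτz, map_pow, ← hj, map_pow τ, hτz, ← pow_mul, ← pow_mul, mul_comm]
      have h2 := hκτσ z
      rw [← h1] at h2
      obtain ⟨i, hi⟩ : ∃ i : ℕ, z ^ i = σ⁻¹ (τ⁻¹ z) :=
        mem_powers_iff_mem_zpowers.2 (by
          have := hz (σ⁻¹ * τ⁻¹) (mul_mem (inv_mem hσ) (inv_mem hτ))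
          rwa [MulAut.mul_apply] at this)
      obtain ⟨i', hi'⟩ : ∃ i' : ℕ, z ^ i' = σ (τ z) := mem_powers_iff_mem_zpowers.2 (by
        have := hz (σ * τ) (mul_mem hσ hτ)
        rwa [MulAut.mul_apply] at this)
      have h3 : z = (z ^ i') ^ i := by
        have h1' : τ (σ (z ^ i)) = z := by rw [hi, MulAut.apply_inv_self, MulAut.apply_inv_self]
        rw [map_pow, map_pow, ← h1, ← hi'] at h1'
        exact h1'.symm
      calc κ z = κ ((z ^ i') ^ i) := by rw [← h3]
        _ = (z ^ i') ^ i := by rw [map_pow, hi', h2]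
        _ = z := h3.symm
    set y := w⁻¹ * τ w with hy
    have hy1 : y = (z ^ r)⁻¹ * z ^ (l * r) := by
      rw [hy, hτw, hw, mul_inv_rev, mul_assoc, ← mul_assoc (z ^ r)⁻¹,
        (((hZc.pow_pow r k).inv_left).mul_left (hZc.pow_pow (l * r) k)).eq, ← mul_assoc, inv_mul_cancel, one_mul]
    have hyc : κ y = y := by rw [hy1, map_mul, map_inv, map_pow, map_pow, hκz]
    have hiter : ∀ n : ℕ, (κ ^ n) w = w * y ^ n := by
      intro n
      induction n with
      | zero => simp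
      | succ n ih =>
        rw [pow_succ', MulAut.mul_apply, ih, map_mul, map_pow, hyc, hκw, pow_succ' y, ← mul_assoc]
        rw [hy, mul_inv_cancel_left]
    obtain ⟨a, n', hn', hord⟩ := Nat.exists_eq_pow_mul_and_not_dvd (orderOf_pos κ).ne' p hp.out.ne_one
    have hpow : (κ ^ n') ^ p ^ a = 1 := by
      rw [← pow_mul, mul_comm, ← hord, pow_orderOf_eq_one]
    have hwc : w ∈ Subgroup.center P := (Subgroup.characteristic_iff_comap_eq.1 inferInstance σ).ge hcc
    have h1 := hfix (κ ^ n') (pow_mem hκA _) ⟨a, hpow⟩ w hwc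
    rw [hiter, mul_eq_left] at h1
    have hyp : y ^ p = 1 := by
      rw [hy1, ((((Commute.refl z).pow_pow r (l * r))).inv_left).mul_pow, inv_pow, ← pow_mul, ← pow_mul,
        mul_comm r p, mul_comm (l * r) p, pow_mul, pow_mul, hzp, one_pow, one_pow, inv_one, one_mul]
    have hy0 : y = 1 := by
      have hcop : Nat.Coprime p n' := hp.out.coprime_iff_not_dvd.2 hn'
      exact orderOf_eq_one_iff.1 (Nat.eq_one_of_dvd_coprimes hcop (orderOf_dvd_of_pow_eq_one hyp)
        (orderOf_dvd_of_pow_eq_one h1))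
    rw [hy1, inv_mul_eq_one] at hy0
    obtain ⟨hr, -⟩ := hind r 0 (l * r) 0 (by rw [pow_zero, mul_one, mul_one, hy0])
    rw [Nat.cast_mul] at hr
    have hr0 : (r : ZMod p) = 0 := by
      have : (r : ZMod p) * ((l : ZMod p) - 1) = 0 := by rw [mul_sub, mul_one, mul_comm, ← hr, sub_self]
      exact (mul_eq_zero.1 this).resolve_right (sub_ne_zero.2 hl)
    rw [hw]
    exact hdrop r k hr0
  · obtain ⟨j, k, rfl⟩ := hdec e he
    obtain ⟨n, hn⟩ : ∃ n : ℕ, (z ^ j * c ^ k) ^ n = τ (z ^ j * c ^ k) :=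
      mem_powers_iff_mem_zpowers.2 (hein τ hτ)
    rw [map_mul, map_pow, map_pow, hτz, hτc, ← pow_mul, (hZc.pow_pow j k).mul_pow, ← pow_mul, ← pow_mul] at hn
    obtain ⟨h1, h2⟩ := hind _ _ _ _ hn
    push_cast at h1 h2
    have hk0 : (k : ZMod p) ≠ 0 := fun h => hez (by
      rw [(orderOf_dvd_iff_pow_eq_one).1 (dvd_trans (orderOf_dvd_of_pow_eq_one hcp) ((ZMod.natCast_eq_zero_iff _ _).1 h)),
        mul_one]
      exact pow_mem (Subgroup.mem_zpowers z) j)
    have hn1 : (n : ZMod p) = 1 := mul_left_cancel₀ hk0 (by rw [h2, mul_one])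
    rw [hn1, mul_one] at h1
    have hj0 : (j : ZMod p) = 0 := by
      have : (j : ZMod p) * ((l : ZMod p) - 1) = 0 := by rw [mul_sub, mul_one, mul_comm, ← h1, sub_self]
      exact (mul_eq_zero.1 this).resolve_right (sub_ne_zero.2 hl)
    exact hdrop j k hj0

end Cfsg.Agent.SectionalThree
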