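import Cfsg.Agent.EqLemmas

/-!
# Groups of order `p ^ 4` with a regular element over an elementary abelian subgroup

`RegularModel p G` : four generators `a, b, c, x` of order dividing `p`, the first three commuting, with
`x a x⁻¹ = a b`, `x b x⁻¹ = b c`, `x c x⁻¹ = c`. Two such groups of order `p ^ 4` are isomorphic
(`RegularModel.equiv`).
-/

set_option autoImplicit false
set_option maxHeartbeats 1000000

namespace Cfsg.Agent.SectionalThree

variable {p : ℕ} [hp : Fact p.Prime]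

/-- The relations. -/
structure RegularModel.Data (p : ℕ) (G : Type*) [Group G] where
  a : G
  b : G
  c : G
  x : G
  a_pow : a ^ p = 1
  b_pow : b ^ p = 1
  c_pow : c ^ p = 1
  x_pow : x ^ p = 1
  ab : Commute a b
  ac : Commute a c
  bc : Commute b c
  xa : x * a * x⁻¹ = a * b
  xb : x * b * x⁻¹ = b * c
  xc : x * c * x⁻¹ = c
  gen : Subgroup.closure ({a, b, c, x} : Set G) = ⊤

/-- The presentation of the group of order `p ^ 4`. -/
structure RegularModel (p : ℕ) (G : Type*) [Group G] extends RegularModel.Data p G where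
  card : Nat.card G = p ^ 4

namespace RegularModel

/-- The exponent of `c` after moving `x ^ l` past `a`. -/
def tri : ℕ → ℕ
  | 0 => 0
  | l + 1 => tri l + l

/-- The multiplication in coordinates. -/
def mulV (v w : ZMod p × ZMod p × ZMod p × ZMod p) : ZMod p × ZMod p × ZMod p × ZMod p :=
  (v.1 + w.1, v.2.1 + w.1 * v.2.2.2 + w.2.1,
    v.2.2.1 + w.1 * ((tri v.2.2.2.val : ℕ) : ZMod p) + w.2.1 * v.2.2.2 + w.2.2.1, v.2.2.2 + w.2.2.2)

namespace Data

variable {G : Type*} [Group G] (M : RegularModel.Data p G)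

/-- The normal form. -/
def nf (i j k l : ℕ) : G := M.a ^ i * M.b ^ j * M.c ^ k * M.x ^ l

omit hp in
theorem conj_pow_c (l k : ℕ) : M.x ^ l * M.c ^ k = M.c ^ k * M.x ^ l :=
  ((show Commute M.x M.c from mul_inv_eq_iff_eq_mul.1 M.xc).pow_pow l k).eq

omit hp in
theorem conj_pow_b (l j : ℕ) : M.x ^ l * M.b ^ j = M.b ^ j * M.c ^ (j * l) * M.x ^ l := by
  induction l with
  | zero => simp
  | succ l ih =>
    have h1 : M.x * M.b ^ j = M.b ^ j * M.c ^ j * M.x := by
      rw [← mul_inv_eq_iff_eq_mul, ← conj_pow, M.xb, M.bc.mul_pow]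
    have h2 := M.conj_pow_c 1 (j * l)
    rw [pow_one] at h2
    rw [pow_succ' M.x l, mul_assoc, ih, ← mul_assoc, ← mul_assoc, h1, mul_assoc (M.b ^ j * M.c ^ j), h2,
      show j * (l + 1) = j + j * l by ring, pow_add]
    simp only [mul_assoc]

omit hp in
theorem conj_pow_a (l i : ℕ) :
    M.x ^ l * M.a ^ i = M.a ^ i * M.b ^ (i * l) * M.c ^ (i * tri l) * M.x ^ l := by
  induction l with
  | zero => simp [tri]
  | succ l ih =>
    have h1 : M.x * M.a ^ i = M.a ^ i * M.b ^ i * M.x := by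
      rw [← mul_inv_eq_iff_eq_mul, ← conj_pow, M.xa, M.ab.mul_pow]
    have h2 := M.conj_pow_b 1 (i * l)
    rw [pow_one, mul_one] at h2
    have h3 := M.conj_pow_c 1 (i * tri l)
    rw [pow_one] at h3
    calc M.x ^ (l + 1) * M.a ^ i = (M.x * M.a ^ i) * (M.b ^ (i * l) * M.c ^ (i * tri l) * M.x ^ l) := by
          rw [pow_succ' M.x l, mul_assoc, ih]; group
      _ = M.a ^ i * M.b ^ i * ((M.x * M.b ^ (i * l)) * M.c ^ (i * tri l) * M.x ^ l) := by rw [h1]; group
      _ = M.a ^ i * M.b ^ i * (M.b ^ (i * l) * M.c ^ (i * l) * (M.x * M.c ^ (i * tri l)) * M.x ^ l) := by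
          rw [h2]; group
      _ = M.a ^ i * (M.b ^ i * M.b ^ (i * l)) * (M.c ^ (i * l) * M.c ^ (i * tri l)) * (M.x * M.x ^ l) := by
          rw [h3]; group
      _ = _ := by
          rw [← pow_add, ← pow_add, ← pow_succ', tri, Nat.mul_succ, Nat.mul_add, Nat.add_comm i,
            Nat.add_comm (i * tri l)]

omit hp in
theorem nf_mul (i j k l i' j' k' l' : ℕ) :
    M.nf i j k l * M.nf i' j' k' l' =
      M.nf (i + i') (j + i' * l + j') (k + i' * tri l + j' * l + k') (l + l') := by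
  simp only [nf]
  calc M.a ^ i * M.b ^ j * M.c ^ k * M.x ^ l * (M.a ^ i' * M.b ^ j' * M.c ^ k' * M.x ^ l')
      = M.a ^ i * M.b ^ j * M.c ^ k * (M.x ^ l * M.a ^ i') * M.b ^ j' * M.c ^ k' * M.x ^ l' := by group
    _ = M.a ^ i * (M.b ^ j * M.c ^ k * M.a ^ i') * M.b ^ (i' * l) * M.c ^ (i' * tri l) *
          (M.x ^ l * M.b ^ j') * M.c ^ k' * M.x ^ l' := by rw [M.conj_pow_a]; group
    _ = (M.a ^ i * M.a ^ i') * M.b ^ j * (M.c ^ k * M.b ^ (i' * l)) * M.c ^ (i' * tri l) *
          M.b ^ j' * M.c ^ (j' * l) * (M.x ^ l * M.c ^ k') * M.x ^ l' := by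
        rw [M.conj_pow_b, ((M.ab.pow_pow i' j).symm.mul_left (M.ac.pow_pow i' k).symm).eq]; group
    _ = (M.a ^ i * M.a ^ i') * (M.b ^ j * M.b ^ (i' * l)) * (M.c ^ k * M.c ^ (i' * tri l) * M.b ^ j') *
          M.c ^ (j' * l) * M.c ^ k' * (M.x ^ l * M.x ^ l') := by
        rw [M.conj_pow_c, (M.bc.pow_pow (i' * l) k).symm.eq]; group
    _ = _ := by
        rw [((M.bc.pow_pow j' k).symm.mul_left (M.bc.pow_pow j' (i' * tri l)).symm).eq]
        group

omit hp in
theorem pow_mod {g : G} (h : g ^ p = 1) (n : ℕ) : g ^ n = g ^ (n % p) := by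
  conv_lhs => rw [← Nat.mod_add_div n p, pow_add, pow_mul, h, one_pow, mul_one]

/-- The bijection with `(ZMod p) ^ 4`. -/
def φ (v : ZMod p × ZMod p × ZMod p × ZMod p) : G := M.nf v.1.val v.2.1.val v.2.2.1.val v.2.2.2.val

theorem φ_natCast (i j k l : ℕ) :
    M.φ ((i : ZMod p), (j : ZMod p), (k : ZMod p), (l : ZMod p)) = M.nf i j k l := by
  simp only [φ, nf, ZMod.val_natCast]
  rw [← pow_mod M.a_pow, ← pow_mod M.b_pow, ← pow_mod M.c_pow, ← pow_mod M.x_pow]

theorem φ_mul (v w : ZMod p × ZMod p × ZMod p × ZMod p) : M.φ v * M.φ w = M.φ (mulV v w) := by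
  rw [φ, φ, nf_mul, ← φ_natCast]
  congr 1
  simp only [mulV, Nat.cast_add, Nat.cast_mul, ZMod.natCast_val, ZMod.cast_id', id_eq]

theorem φ_surjective : Function.Surjective M.φ := by
  have hcl : ∀ v w, ∃ u, M.φ u = M.φ v * M.φ w := fun v w => ⟨_, (M.φ_mul v w).symm⟩
  let H : Submonoid G :=
    { carrier := Set.range M.φ
      mul_mem' := by rintro _ _ ⟨v, rfl⟩ ⟨w, rfl⟩; exact hcl v w
      one_mem' := ⟨(0, 0, 0, 0), by simp [φ, nf]⟩ }
  intro g
  have hg : g ∈ Subgroup.closure ({M.a, M.b, M.c, M.x} : Set G) := M.gen ▸ Subgroup.mem_top g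
  have hgens : ∀ y ∈ ({M.a, M.b, M.c, M.x} : Set G), y ∈ H ∧ y⁻¹ ∈ H := by
    have hpos := hp.out.pos
    have hinv : ∀ {y : G}, y ^ p = 1 → y ∈ H → y ∈ H ∧ y⁻¹ ∈ H := fun {y} hy h => ⟨h, by
      rw [inv_eq_of_mul_eq_one_right (show y * y ^ (p - 1) = 1 by
        rw [← pow_succ', Nat.sub_add_cancel hpos, hy])]
      exact pow_mem h _⟩
    rintro y (rfl | rfl | rfl | rfl)
    · exact hinv M.a_pow ⟨_, (M.φ_natCast 1 0 0 0).trans (by simp [nf])⟩
    · exact hinv M.b_pow ⟨_, (M.φ_natCast 0 1 0 0).trans (by simp [nf])⟩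
    · exact hinv M.c_pow ⟨_, (M.φ_natCast 0 0 1 0).trans (by simp [nf])⟩
    · exact hinv M.x_pow ⟨_, (M.φ_natCast 0 0 0 1).trans (by simp [nf])⟩
  have h2 : g ∈ H ∧ g⁻¹ ∈ H := by
    induction hg using Subgroup.closure_induction with
    | mem y hy => exact hgens y hy
    | one => exact ⟨one_mem _, by rw [inv_one]; exact one_mem _⟩
    | mul u v _ _ hu hv => exact ⟨mul_mem hu.1 hv.1, by rw [mul_inv_rev]; exact mul_mem hv.2 hu.2⟩
    | inv u _ hu => exact ⟨hu.2, by rw [inv_inv]; exact hu.1⟩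
  exact h2.1

include M in
theorem finite : Finite G := Finite.of_surjective M.φ M.φ_surjective

include M in
theorem card_le : Nat.card G ≤ p ^ 4 := by
  refine (Nat.card_le_card_of_surjective M.φ M.φ_surjective).trans (le_of_eq ?_)
  simp only [Nat.card_prod, Nat.card_zmod]; ring

end Data

variable {G : Type*} [Group G] (M : RegularModel p G)

theorem φ_bijective : Function.Bijective M.φ := by
  haveI := M.toData.finite
  refine (Nat.bijective_iff_surjective_and_card _).2 ⟨M.φ_surjective, ?_⟩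
  simp only [Nat.card_prod, Nat.card_zmod, M.card]; ring

include M in
/-- Two groups with this presentation are isomorphic. -/
theorem nonempty_mulEquiv {H : Type*} [Group H] (N : RegularModel p H) : Nonempty (G ≃* H) := by
  let e := Equiv.ofBijective M.φ M.φ_bijective
  let f := Equiv.ofBijective N.φ N.φ_bijective
  refine ⟨{ e.symm.trans f with map_mul' := fun g g' => ?_ }⟩
  obtain ⟨v, rfl⟩ := e.surjective g
  obtain ⟨w, rfl⟩ := e.surjective g'
  have h : e v * e w = e (mulV v w) := M.φ_mul v w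
  show f (e.symm (e v * e w)) = f (e.symm (e v)) * f (e.symm (e w))
  rw [h, e.symm_apply_apply, e.symm_apply_apply, e.symm_apply_apply]
  exact (N.φ_mul v w).symm

end RegularModel

end Cfsg.Agent.SectionalThree
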