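import Cfsg.Agent.Lib.RankThreeEss.Linear

/-!
# Tori from pairs of transvection subgroups

`exists_torus_pair` : the diagonal element of a transvection and a given conjugate outside its group; it fixes
the common fixed line of the two.
-/

set_option autoImplicit false
set_option linter.style.haveILetI false
set_option linter.unusedSectionVars false
set_option maxHeartbeats 1000000

namespace Cfsg.Agent.SectionalThree

open RankThreeEss

variable {p : ℕ} [hp : Fact p.Prime] {W : Type*} [AddCommGroup W] [Module (ZMod p) W]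
  {G : Type*} [Group G] [Finite G]

/-- The normalizer of a subgroup of order `p` is strongly embedded. -/
theorem emb_normalizer (R : Rep p G W) {u : G} (hu : ∃ k : ℕ, u ^ p ^ k = 1) (hu1 : u ≠ 1) :
    Cfsg.IsStronglyPEmbedded p (Subgroup.normalizer (Subgroup.zpowers u : Set G)) := by
  have hord := R.orderOf_eq hu hu1
  have hUp : IsPGroup p (Subgroup.zpowers u) := IsPGroup.of_card (n := 1) (by rw [Nat.card_zpowers, hord, pow_one])
  obtain ⟨P, hP⟩ := hUp.exists_le_sylow
  have hPeq : Subgroup.zpowers u = (P : Subgroup G) := Subgroup.eq_of_le_of_card_ge hP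
    (by rw [Nat.card_zpowers, hord]; exact R.card_pgroup_le P.isPGroup')
  obtain ⟨R', hρ, huM⟩ := R.exists_mem_emb hu
  refine (StrongPEmb.isStronglyPEmbedded_iff_forall _).2 ⟨R.emb.1, fun h => ?_, P, fun Q hQ hne => ?_⟩
  · obtain ⟨g, hg⟩ := R'.exists_conj_not_mem hord huM
    refine hg (Subgroup.zpowers_le.2 huM ?_)
    exact (Subgroup.mem_normalizer_iff.1 (h.ge (Subgroup.mem_top g)) u).1 (Subgroup.mem_zpowers u)
  · have hQeq : Q = Subgroup.zpowers u := by
      refine Subgroup.eq_of_le_of_card_ge (hPeq ▸ hQ) ?_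
      rw [Nat.card_zpowers, hord]
      haveI := (Subgroup.nontrivial_iff_ne_bot Q).2 hne
      obtain ⟨n, hn, hc⟩ := (P.isPGroup'.to_le hQ).nontrivial_iff_card.1 ‹_›
      exact hc ▸ Nat.le_self_pow hn.ne' p
    rw [hQeq]

/-- A conjugate normalizing the group of a transvection lies in it. -/
theorem not_mem_normalizer (R : Rep p G W) {u g : G} (hu : ∃ k : ℕ, u ^ p ^ k = 1) (hu1 : u ≠ 1)
    (hg : g * u * g⁻¹ ∉ Subgroup.zpowers u) : g * u * g⁻¹ ∉ Subgroup.normalizer (Subgroup.zpowers u : Set G) := by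
  intro h
  have hord := R.orderOf_eq hu hu1
  have hUp : IsPGroup p (Subgroup.zpowers u) := IsPGroup.of_card (n := 1) (by rw [Nat.card_zpowers, hord, pow_one])
  have hVp : IsPGroup p (Subgroup.zpowers (g * u * g⁻¹)) := IsPGroup.of_card (n := 1) (by
    rw [Nat.card_zpowers, pow_one]
    exact R.orderOf_eq (Rep.exists_pk_conj hu g) (by rw [Ne, conj_eq_one_iff]; exact hu1))
  have hsup := hUp.to_sup_of_normal_left' hVp (Subgroup.zpowers_le.2 h)
  have heq : Subgroup.zpowers u = Subgroup.zpowers u ⊔ Subgroup.zpowers (g * u * g⁻¹) :=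
    Subgroup.eq_of_le_of_card_ge le_sup_left (by rw [Nat.card_zpowers, hord]; exact R.card_pgroup_le hsup)
  exact hg (heq.ge (Subgroup.mem_sup_right (Subgroup.mem_zpowers _)))

/-- Some conjugate of a transvection lies outside its group. -/
theorem exists_conj_not_mem_zpowers (R : Rep p G W) {u : G} (hu : ∃ k : ℕ, u ^ p ^ k = 1) (hu1 : u ≠ 1) :
    ∃ g : G, g * u * g⁻¹ ∉ Subgroup.zpowers u := by
  obtain ⟨g, hg⟩ := Rep.exists_conj_not_mem
    ({ R with M := _, emb := emb_normalizer R hu hu1 } : Rep p G W) (R.orderOf_eq hu hu1)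
    (Subgroup.le_normalizer (Subgroup.mem_zpowers u))
  exact ⟨g, fun h => hg (Subgroup.le_normalizer h)⟩

/-- The diagonal element of a pair of transvections. -/
theorem exists_torus_pair (R : Rep p G W) {u g : G} (hu : ∃ k : ℕ, u ^ p ^ k = 1) (hu1 : u ≠ 1)
    (hA : R.nil u * R.nil u = 0) (hg : g * u * g⁻¹ ∉ Subgroup.zpowers u) (ν : ZMod p) (hν : ν ≠ 0) :
    ∃ (a z c : W) (t : G),
      (∀ x y w : ZMod p, x • a + y • z + w • c = 0 → x = 0 ∧ y = 0 ∧ w = 0) ∧
      R.ρ u a = a + z ∧ R.ρ u z = z ∧ R.ρ u c = c ∧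
      R.ρ t a = ν⁻¹ • a ∧ R.ρ t z = ν • z ∧ R.ρ t c = c ∧
      R.ρ (g * u * g⁻¹) c = c ∧
      ∀ w, R.ρ u w = w → R.ρ (g * u * g⁻¹) w = w → ∃ k : ZMod p, w = k • c := by
  haveI := R.finiteW
  let R' : Rep p G W := { R with M := _, emb := emb_normalizer R hu hu1 }
  have hnil : ∀ g, R'.nil g = R.nil g := fun g => rfl
  have huM : u ∈ R'.M := Subgroup.le_normalizer (Subgroup.mem_zpowers u)
  have hzo := R.orderOf_eq hu hu1
  obtain ⟨c₀, f, hc₀, hfc, -, hf⟩ := R.exists_rank_one hA fun e => hu1 (R.nil_eq_zero_iff.1 e)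
  obtain ⟨h1, h2⟩ := R'.general_position hzo huM (by rw [hnil]; exact hA)
    (fun v => by rw [hnil]; exact hf v) (not_mem_normalizer R hu hu1 hg)
  change f (R.ρ g c₀) ≠ 0 at h1
  change f (R.ρ g⁻¹ c₀) ≠ 0 at h2
  set u' := g * u * g⁻¹ with hu'
  have hBv : ∀ v, R.nil u' v = f (R.ρ g⁻¹ v) • R.ρ g c₀ := fun v => by
    conv_lhs => rw [← R.apply_inv_self g v, hu', Rep.nil_conj_apply, hf, map_smul]
  have hB : R.nil u' * R.nil u' = 0 := LinearMap.ext fun v => by
    rw [Module.End.mul_apply, hBv v, map_smul, hBv, R.inv_apply_self, hfc, zero_smul, smul_zero]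
    rfl
  set a := (f (R.ρ g c₀))⁻¹ • R.ρ g c₀ with ha
  set κ := f (R.ρ g⁻¹ c₀) * f (R.ρ g c₀) with hκ
  have hκ0 : κ ≠ 0 := mul_ne_zero h2 h1
  obtain ⟨C, hC0, hC1, hC2⟩ : ∃ w : W, w ≠ 0 ∧ f w = 0 ∧ f (R.ρ g⁻¹ w) = 0 := by
    by_contra h
    push Not at h
    have hinj : Function.Injective (fun v : W => (f v, f (R.ρ g⁻¹ v))) := by
      intro v v' e
      simp only [Prod.mk.injEq] at e
      obtain ⟨e1, e2⟩ := e
      by_contra hne
      exact h (v - v') (sub_ne_zero.2 hne) (by rw [map_sub, e1, sub_self])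
        (by rw [map_sub, map_sub, e2, sub_self])
    have := Nat.card_le_card_of_injective _ hinj
    rw [R.card, Nat.card_prod, Nat.card_zmod] at this
    nlinarith [hp.out.two_le, pow_succ p 2]
  have hAa : R.nil u a = c₀ := by
    rw [hf, ha, map_smul, smul_eq_mul, inv_mul_cancel₀ h1, one_smul]
  have hAz : R.nil u c₀ = 0 := by rw [hf, hfc, zero_smul]
  have hAc : R.nil u C = 0 := by rw [hf, hC1, zero_smul]
  have hBa : R.nil u' a = 0 := by
    rw [ha, map_smul, hBv, R.inv_apply_self, hfc, zero_smul, smul_zero]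
  have hBz : R.nil u' c₀ = κ • a := by
    rw [hBv, ha, smul_smul, hκ, mul_assoc, mul_inv_cancel₀ h1, mul_one]
  have hBc : R.nil u' C = 0 := by rw [hBv, hC2, zero_smul]
  have hu'pow : ∀ (n : ℕ) (v : W), R.ρ (u' ^ n) v = v + (n : ZMod p) • R.nil u' v := by
    intro n v
    rw [map_pow, Rep.ρ_eq, one_add_pow_of_sq hB, LinearMap.add_apply, Module.End.one_apply,
      LinearMap.smul_apply, Nat.cast_smul_eq_nsmul]
  have hupow : ∀ (n : ℕ) (v : W), R.ρ (u ^ n) v = v + (n : ZMod p) • R.nil u v := by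
    intro n v
    rw [map_pow, Rep.ρ_eq, one_add_pow_of_sq hA, LinearMap.add_apply, Module.End.one_apply,
      LinearMap.smul_apply, Nat.cast_smul_eq_nsmul]
  let w : ZMod p → G := fun s => u ^ s.val * u' ^ (-s⁻¹ / κ).val * u ^ s.val
  have hw : ∀ s : ZMod p, s ≠ 0 → R.ρ (w s) a = s • c₀ ∧ R.ρ (w s) c₀ = (-s⁻¹) • a ∧
      R.ρ (w s) C = C := by
    intro s hs
    refine ⟨?_, ?_, ?_⟩
    · simp only [w, map_mul, Module.End.mul_apply, hupow, hu'pow, ZMod.natCast_zmod_val, hAa, hAz,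
        hBa, hBz, map_add, map_smul, smul_zero, add_zero, zero_add, smul_add, smul_smul]
      match_scalars <;> field_simp <;> ring
    · simp only [w, map_mul, Module.End.mul_apply, hupow, hu'pow, ZMod.natCast_zmod_val, hAa, hAz,
        hBa, hBz, map_add, map_smul, smul_zero, add_zero, zero_add, smul_add, smul_smul]
      match_scalars <;> field_simp <;> ring
    · simp only [w, map_mul, Module.End.mul_apply, hupow, hu'pow, ZMod.natCast_zmod_val, hAc, hBc,
        smul_zero, add_zero]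
  have hind : ∀ x y t : ZMod p, x • a + y • c₀ + t • C = 0 → x = 0 ∧ y = 0 ∧ t = 0 := by
    intro x y t h
    have hx := congrArg (R.nil u) h
    simp only [map_add, map_smul, hAa, hAz, hAc, map_zero, smul_zero, add_zero,
      smul_eq_zero_iff_left hc₀] at hx
    subst hx
    have ha0 : a ≠ 0 := fun e => hc₀ (by rw [← hAa, e, map_zero])
    have hy := congrArg (R.nil u') h
    simp only [map_add, map_smul, hBa, hBz, hBc, map_zero, smul_zero, add_zero, zero_add, smul_smul,
      smul_eq_zero_iff_left ha0, mul_eq_zero, hκ0, or_false] at hy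
    subst hy
    simp only [zero_smul, zero_add, smul_eq_zero_iff_left hC0] at h
    exact ⟨rfl, rfl, h⟩
  obtain ⟨wa, wz, wc⟩ := hw (-1) (neg_ne_zero.2 one_ne_zero)
  obtain ⟨va, vz, vc⟩ := hw ν hν
  refine ⟨a, c₀, C, w ν * w (-1), hind, ?_, ?_, ?_, ?_, ?_, ?_, ?_, ?_⟩
  · rw [Rep.apply_eq, hAa]
  · rw [Rep.apply_eq, hAz, add_zero]
  · rw [Rep.apply_eq, hAc, add_zero]
  · rw [map_mul, Module.End.mul_apply, wa, map_smul, vz, smul_smul]
    congr 1
    ring
  · rw [map_mul, Module.End.mul_apply, wz, map_smul, va, smul_smul]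
    congr 1
    norm_num
  · rw [map_mul, Module.End.mul_apply, wc, vc]
  · rw [Rep.apply_eq, hBc, add_zero]
  · intro v hv hv'
    obtain ⟨x, y, k, rfl⟩ := exists_coords R.card a c₀ C hind v
    rw [Rep.apply_eq, add_eq_left] at hv hv'
    simp only [map_add, map_smul, hAa, hAz, hAc, smul_zero, add_zero, smul_eq_zero_iff_left hc₀] at hv
    subst hv
    have ha0 : a ≠ 0 := fun e => hc₀ (by rw [← hAa, e, map_zero])
    simp only [map_add, map_smul, hBa, hBz, hBc, smul_zero, add_zero, zero_add, smul_smul,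
      smul_eq_zero_iff_left ha0, mul_eq_zero, hκ0, or_false] at hv'
    subst hv'
    exact ⟨k, by rw [zero_smul, zero_smul, zero_add, zero_add]⟩

/-- A diagonal element conjugates the transvection to its power. -/
theorem torus_conj (R : Rep p G W) {u t : G} {a z c : W}
    (hind : ∀ x y w : ZMod p, x • a + y • z + w • c = 0 → x = 0 ∧ y = 0 ∧ w = 0)
    (hua : R.ρ u a = a + z) (huz : R.ρ u z = z) (huc : R.ρ u c = c) {l m : ℕ}
    (hlm : (m : ZMod p) * (l : ZMod p) = 1)
    (hta : R.ρ t a = (m : ZMod p) • a) (htz : R.ρ t z = (l : ZMod p) • z) (htc : R.ρ t c = c) :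
    t * u * t⁻¹ = u ^ (l * l) := by
  have hupow : ∀ n : ℕ, R.ρ (u ^ n) a = a + (n : ZMod p) • z ∧ R.ρ (u ^ n) z = z ∧ R.ρ (u ^ n) c = c := by
    intro n
    induction n with
    | zero => simp
    | succ n ih =>
      obtain ⟨h1, h2, h3⟩ := ih
      refine ⟨?_, ?_, ?_⟩ <;> rw [pow_succ, map_mul, Module.End.mul_apply]
      · rw [hua, map_add, h1, h2, Nat.cast_succ, add_smul, one_smul, add_assoc]
      · rw [huz, h2]
      · rw [huc, h3]
  have hi : ∀ v w : W, R.ρ t v = w → R.ρ t⁻¹ w = v := fun v w h => by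
    rw [← h, Rep.inv_apply_self]
  have ta' : R.ρ t⁻¹ a = (l : ZMod p) • a := hi _ _ (by
    rw [map_smul, hta, smul_smul, mul_comm, hlm, one_smul])
  have tz' : R.ρ t⁻¹ z = (m : ZMod p) • z := hi _ _ (by
    rw [map_smul, htz, smul_smul, hlm, one_smul])
  refine R.inj (LinearMap.ext fun v => ?_)
  obtain ⟨i, j, k, rfl⟩ := exists_coords R.card a z c hind v
  simp only [map_mul, Module.End.mul_apply, map_add, map_smul, ta', tz', hi _ _ htc, hua, huz, huc, hta, htz,
    htc, (hupow (l * l)).1, (hupow (l * l)).2.1, (hupow (l * l)).2.2, smul_add, smul_smul, Nat.cast_mul]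
  rw [mul_comm (l : ZMod p) m, hlm, mul_one, mul_one]

end Cfsg.Agent.SectionalThree
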