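import Cfsg.Agent.Lib.RankThreeEss.Basics
import Cfsg.Agent.Lib.EssentialSmall.Basic

/-!
# Descending steps in a finite `p`-group

* `step p U` : the layer `[U, G]U^p` below a normal subgroup, proper when `U` is nontrivial (`step_lt`);
* `commutator_mem_of_card_le` : a factor of order at most `p` is central;
* `commute_of_closure` : a homomorphism has commutative image as soon as it has on generators.
-/

set_option autoImplicit false
set_option linter.unusedSectionVars false
set_option maxHeartbeats 800000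

namespace Cfsg.Agent.SectionalThree

open scoped commutatorElement

variable {p : ℕ} [hp : Fact p.Prime] {G : Type*} [Group G]

/-- `[U, G]U^p`. -/
def step (p : ℕ) (U : Subgroup G) : Subgroup G :=
  ⁅U, (⊤ : Subgroup G)⁆ ⊔ Subgroup.closure ((fun v : G => v ^ p) '' (U : Set G))

theorem pow_mem_step {U : Subgroup G} {v : G} (h : v ∈ U) : v ^ p ∈ step p U :=
  Subgroup.mem_sup_right (Subgroup.subset_closure ⟨v, h, rfl⟩)

theorem commutator_mem_step {U : Subgroup G} {v : G} (h : v ∈ U) (w : G) : ⁅v, w⁆ ∈ step p U :=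
  Subgroup.mem_sup_left (Subgroup.commutator_mem_commutator h (Subgroup.mem_top w))

theorem step_le (U : Subgroup G) [U.Normal] : step p U ≤ U :=
  sup_le (Subgroup.commutator_le_left _ _) ((Subgroup.closure_le _).2 (by
    rintro _ ⟨v, hv, rfl⟩; exact pow_mem hv p))

theorem step_le_iff {U X : Subgroup G} :
    step p U ≤ X ↔ (∀ v ∈ U, ∀ w, ⁅v, w⁆ ∈ X) ∧ ∀ v ∈ U, v ^ p ∈ X := by
  refine ⟨fun h => ⟨fun v hv w => h (commutator_mem_step hv w), fun v hv => h (pow_mem_step hv)⟩,
    fun h => sup_le (Subgroup.commutator_le.2 fun v hv w _ => h.1 v hv w) ((Subgroup.closure_le _).2 ?_)⟩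
  rintro _ ⟨v, hv, rfl⟩
  exact h.2 v hv

instance step_characteristic (U : Subgroup G) [hU : U.Characteristic] : (step p U).Characteristic := by
  have hmem : ∀ (α : MulAut G) (v : G), v ∈ U → α v ∈ U := fun α v hv =>
    Subgroup.mem_comap.1 ((Subgroup.characteristic_iff_comap_eq.1 hU α).ge hv)
  refine Subgroup.characteristic_iff_map_le.2 fun α => Subgroup.map_le_iff_le_comap.2
    (step_le_iff.2 ⟨fun v hv w => Subgroup.mem_comap.2 ?_, fun v hv => Subgroup.mem_comap.2 ?_⟩)
  · rw [map_commutatorElement]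
    exact commutator_mem_step (hmem α v hv) _
  · rw [map_pow]
    exact pow_mem_step (hmem α v hv)

theorem step_lt [Finite G] (hG : IsPGroup p G) {U : Subgroup G} [U.Normal] (h : U ≠ ⊥) : step p U < U := by
  refine lt_of_le_of_ne (step_le U) fun e => ?_
  have hle : ⁅U, (⊤ : Subgroup G)⁆ ≤ U := Subgroup.commutator_le_left _ _
  have htop : (⁅U, (⊤ : Subgroup G)⁆).subgroupOf U = ⊤ := by
    refine frattini_nongenerating (eq_top_iff.2 fun v _ => ?_)
    have hv : (v : G) ∈ step p U := e.symm ▸ v.2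
    have h1 : step p U ≤ ((⁅U, (⊤ : Subgroup G)⁆).subgroupOf U ⊔ frattini U).map U.subtype := by
      refine step_le_iff.2 ⟨fun w hw g => ?_, fun w hw => ?_⟩
      · have hwg := Subgroup.commutator_mem_commutator hw (Subgroup.mem_top g)
        exact ⟨⟨_, hle hwg⟩, Subgroup.mem_sup_left (Subgroup.mem_subgroupOf.2 hwg), rfl⟩
      · exact ⟨⟨w, hw⟩ ^ p, Subgroup.mem_sup_right (PGroup.pow_mem_frattini (hG.to_subgroup _) _), rfl⟩
    obtain ⟨w, hw, hwe⟩ := h1 hv
    exact Subtype.ext hwe ▸ hw
  rw [Subgroup.subgroupOf_eq_top] at htop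
  exact (PGroup.commutator_lt_of_ne_bot hG h).ne (le_antisymm hle htop)

/-- A normal factor of order at most `p` is central. -/
theorem commutator_mem_of_card_le [Finite G] (hG : IsPGroup p G) {K M : Subgroup G} [K.Normal] [hM : M.Normal]
    (hKM : K ≤ M) (hc : Nat.card M ≤ p * Nat.card K) {v : G} (hv : v ∈ M) (g : G) : ⁅v, g⁆ ∈ K := by
  obtain ⟨k, hk⟩ := hG g
  have h := EssentialSmall.mul_apply_mem_of_card_le hG hKM hc (a := MulAut.conj g) (k := k)
    (by rw [← map_pow, hk, map_one]) (fun w hw => (inferInstance : K.Normal).conj_mem w hw g)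
    (fun w hw => hM.conj_mem w hw g) hv
  -- `v⁻¹ g v g⁻¹` lies in `K`
  have h2 := (inferInstance : K.Normal).conj_mem _ (inv_mem h) v
  rw [MulAut.conj_apply] at h2
  convert h2 using 1
  group

theorem commute_of_closure {Q : Type*} [Group Q] (f : G →* Q) {s : Set G} (hs : Subgroup.closure s = ⊤)
    (h : ∀ u ∈ s, ∀ v ∈ s, Commute (f u) (f v)) (u v : G) : Commute (f u) (f v) := by
  have hu : u ∈ Subgroup.closure s := hs ▸ Subgroup.mem_top u
  have hv : v ∈ Subgroup.closure s := hs ▸ Subgroup.mem_top v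
  induction hu using Subgroup.closure_induction with
  | mem y hy =>
    induction hv using Subgroup.closure_induction with
    | mem w hw => exact h y hy w hw
    | one => rw [map_one]; exact Commute.one_right _
    | mul w w' _ _ h1 h2 => rw [map_mul]; exact h1.mul_right h2
    | inv w _ h1 => rw [map_inv]; exact h1.inv_right
  | one => rw [map_one]; exact Commute.one_left _
  | mul y y' _ _ h1 h2 => rw [map_mul]; exact h1.mul_left h2
  | inv y _ h1 => rw [map_inv]; exact h1.inv_left

/-- A homomorphism trivial on `a`, `b` and on `Φ(G)` is trivial. -/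
theorem eq_one_of_generators {Q : Type*} [Group Q] [Finite G] (f : G →* Q) {s : Set G}
    (hs : Subgroup.closure s ⊔ frattini G = ⊤) (h : ∀ u ∈ s, f u = 1) (u : G) : f u = 1 := by
  have h1 : Subgroup.closure s ≤ f.ker := (Subgroup.closure_le _).2 h
  have h2 : f.ker = ⊤ := frattini_nongenerating (top_le_iff.1 (hs ▸ sup_le_sup_right h1 _))
  exact MonoidHom.mem_ker.1 (h2 ▸ Subgroup.mem_top u)

theorem pow_eq_one_of_dvd {y : G} (hy : y ^ p = 1) {n : ℕ} (h : p ∣ n) : y ^ n = 1 := by
  obtain ⟨m, rfl⟩ := h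
  rw [pow_mul, hy, one_pow]

end Cfsg.Agent.SectionalThree
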