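import Cfsg.Agent.Lib.SectionalThree.Step
import Cfsg.Agent.Lib.RankThreeEss.Frame

/-!
# Three generators, exponent `p`, class two, sectional rank three

* `card_commutator_le` : the derived subgroup has order at most `p`;
* `exists_central` : some central element lies outside the derived subgroup;
* `card_le_sq` : an elementary abelian group with two generators has order at most `p ^ 2`.
-/

set_option autoImplicit false
set_option linter.unusedSectionVars false
set_option linter.style.haveILetI false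
set_option maxHeartbeats 1000000

namespace Cfsg.Agent.SectionalThree

open scoped commutatorElement

variable {p : ℕ} [hp : Fact p.Prime]

/-- Sectional rank passes to embedded groups. -/
theorem sectional_injective {k : ℕ} {N M : Type*} [Group N] [Group M] (j : M →* N) (hj : Function.Injective j)
    (hr : Cfsg.SectionalPRankLE p k N) : Cfsg.SectionalPRankLE p k M := by
  intro L K hK A hA hAp
  haveI := hK
  let e : L ≃* L.map j := L.equivMapOfInjective j hj
  haveI : (K.map e.toMonoidHom).Normal := hK.map e.toMonoidHom e.surjective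
  let q : L ⧸ K ≃* (L.map j) ⧸ K.map e.toMonoidHom := QuotientGroup.congr K _ e rfl
  have h := hr (L.map j) (K.map e.toMonoidHom) (A.map q.toMonoidHom)
    ⟨⟨fun u v => by
      obtain ⟨⟨_, a, ha, rfl⟩, ⟨_, b, hb, rfl⟩⟩ := u, v
      apply Subtype.ext
      show q a * q b = q b * q a
      rw [← map_mul, ← map_mul]
      exact congrArg q (congrArg Subtype.val (hA.1.1 ⟨a, ha⟩ ⟨b, hb⟩))⟩⟩
    (by rintro _ ⟨a, ha, rfl⟩; rw [← map_pow, hAp a ha, map_one])
  exact (Nat.card_congr (A.equivMapOfInjective q.toMonoidHom q.injective).toEquiv).trans_le h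

variable {Q : Type*} [Group Q]

/-- An elementary abelian group generated by two elements has order at most `p ^ 2`. -/
theorem card_le_sq (hexp : ∀ q : Q, q ^ p = 1) (hcomm : ∀ u v : Q, Commute u v) {v w : Q}
    (hgen : Subgroup.closure {v, w} = ⊤) : Nat.card Q ≤ p ^ 2 := by
  let φ : ZMod p × ZMod p → Q := fun t => v ^ t.1.val * w ^ t.2.val
  have hmul : ∀ t t', φ t * φ t' = φ (t + t') := fun t t' => by
    simp only [φ, Prod.fst_add, Prod.snd_add]
    rw [((hcomm w v).pow_pow _ _).mul_mul_mul_comm, ← pow_add, ← pow_add]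
    congr 1 <;>
      exact RankThreeEss.pow_congr (hexp _) (by
        rw [Nat.cast_add, ZMod.natCast_zmod_val, ZMod.natCast_zmod_val, ZMod.natCast_zmod_val])
  have hval : ∀ x : Q, x ^ (1 : ZMod p).val = x := fun x => by
    rw [ZMod.val_one, pow_one]
  have hsurj : Function.Surjective φ := fun q => by
    have hq : q ∈ Subgroup.closure {v, w} := hgen ▸ Subgroup.mem_top q
    induction hq using Subgroup.closure_induction with
    | mem y hy =>
      rcases hy with rfl | rfl
      · exact ⟨(1, 0), by simp [φ, hval]⟩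
      · exact ⟨(0, 1), by simp [φ, hval]⟩
    | one => exact ⟨(0, 0), by simp [φ]⟩
    | mul y y' _ _ h h' =>
      obtain ⟨t, rfl⟩ := h
      obtain ⟨t', rfl⟩ := h'
      exact ⟨_, (hmul t t').symm⟩
    | inv y _ h =>
      obtain ⟨t, rfl⟩ := h
      refine ⟨-t, eq_inv_of_mul_eq_one_left ?_⟩
      rw [hmul, neg_add_cancel]
      simp [φ]
  refine (Nat.card_le_card_of_surjective φ hsurj).trans (le_of_eq ?_)
  rw [Nat.card_prod, Nat.card_zmod, pow_two]

/-- A subgroup containing the derived subgroup and missing one generator has index at most `p`. -/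
theorem index_le_prime (hexp : ∀ q : Q, q ^ p = 1) {A : Subgroup Q} [A.Normal] {w : Q}
    (h : A ⊔ Subgroup.zpowers w = ⊤) : A.index ≤ p := by
  have hz : Subgroup.zpowers (w : Q ⧸ A) = ⊤ := by
    have hm := congrArg (Subgroup.map (QuotientGroup.mk' A)) h
    rw [Subgroup.map_sup, QuotientGroup.map_mk'_self, bot_sup_eq, MonoidHom.map_zpowers,
      Subgroup.map_top_of_surjective _ (QuotientGroup.mk'_surjective A)] at hm
    exact hm
  rw [Subgroup.index_eq_card, ← Subgroup.card_top (G := Q ⧸ A), ← hz, Nat.card_zpowers]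
  exact orderOf_le_of_pow_eq_one hp.out.pos (by rw [← QuotientGroup.mk_pow, hexp, QuotientGroup.mk_one])

section

variable [Finite Q] (hexp : ∀ q : Q, q ^ p = 1) (hcen : ∀ u v : Q, ⁅u, v⁆ ∈ Subgroup.center Q)
include hexp hcen

theorem commute_comm (u v g : Q) : Commute g ⁅u, v⁆ := Subgroup.mem_center_iff.1 (hcen u v) g

/-- Two commuting members of a generating triple, when the derived subgroup is small. -/
theorem exists_pair {e₁ e₂ e₃ : Q} (hgen : Subgroup.closure {e₁, e₂, e₃} = ⊤)
    (hsmall : Nat.card (_root_.commutator Q) < p ^ 3) :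
    ∃ u v w : Q, Commute u v ∧ Subgroup.closure {u, v, w} = ⊤ := by
  haveI : NeZero p := ⟨hp.out.ne_zero⟩
  have hk := commute_comm hexp hcen
  set c₁₂ := ⁅e₁, e₂⁆ with h₁₂
  set c₁₃ := ⁅e₁, e₃⁆ with h₁₃
  set c₂₃ := ⁅e₂, e₃⁆ with h₂₃
  have hmem : ∀ u v : Q, ⁅u, v⁆ ∈ _root_.commutator Q := fun u v =>
    Subgroup.commutator_mem_commutator (Subgroup.mem_top u) (Subgroup.mem_top v)
  let φ : ZMod p × ZMod p × ZMod p → _root_.commutator Q := fun t =>
    ⟨c₁₂ ^ t.1.val * c₁₃ ^ t.2.1.val * c₂₃ ^ t.2.2.val,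
      mul_mem (mul_mem (pow_mem (hmem _ _) _) (pow_mem (hmem _ _) _)) (pow_mem (hmem _ _) _)⟩
  have hni : ¬ Function.Injective φ := fun hi => by
    have := Nat.card_le_card_of_injective φ hi
    rw [Nat.card_prod, Nat.card_prod, Nat.card_zmod] at this
    have e : p * (p * p) = p ^ 3 := by ring
    omega
  simp only [Function.Injective, not_forall] at hni
  obtain ⟨t, t', he, hne⟩ := hni
  have he' : c₁₂ ^ t.1.val * c₁₃ ^ t.2.1.val * c₂₃ ^ t.2.2.val =
      c₁₂ ^ t'.1.val * c₁₃ ^ t'.2.1.val * c₂₃ ^ t'.2.2.val := congrArg Subtype.val he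
  -- exponents of `c` form a space; a nonzero relation
  let ψ : ZMod p × ZMod p × ZMod p → Q := fun d => c₁₂ ^ d.1.val * c₁₃ ^ d.2.1.val * c₂₃ ^ d.2.2.val
  have hadd : ∀ d d', ψ (d + d') = ψ d * ψ d' := fun d d' => by
    have e : ∀ (y : Q) (i j : ZMod p), y ^ (i + j).val = y ^ i.val * y ^ j.val := fun y i j => by
      rw [← pow_add]
      exact RankThreeEss.pow_congr (hexp y) (by
        rw [Nat.cast_add, ZMod.natCast_zmod_val, ZMod.natCast_zmod_val, ZMod.natCast_zmod_val])
    simp only [ψ, Prod.fst_add, Prod.snd_add, e]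
    rw [((hk e₁ e₃ c₁₂).symm.pow_pow _ _).symm.mul_mul_mul_comm,
      (((hk e₁ e₂ c₂₃).pow_pow _ _).mul_right ((hk e₁ e₃ c₂₃).pow_pow _ _)).mul_mul_mul_comm]
  have hrel : ψ (t - t') = 1 := by
    have h := hadd (t - t') t'
    rw [sub_add_cancel] at h
    exact (right_eq_mul.1 (he'.symm.trans h))
  have hsm : ∀ (k : ℕ) d, ψ d = 1 → ψ (k • d) = 1 := fun k d hd => by
    induction k with
    | zero => simp [ψ]
    | succ k ih => rw [succ_nsmul, hadd, ih, hd, mul_one]
  have hzero : ∀ d : ZMod p × ZMod p × ZMod p, ψ d = 1 → d ≠ 0 → ∀ i : ZMod p, ψ (i • d) = 1 := by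
    intro d hd _ i
    rw [← ZMod.natCast_zmod_val i, Nat.cast_smul_eq_nsmul]
    exact hsm _ d hd
  obtain ⟨r, s, q, hψ, hrsq⟩ : ∃ r s q : ZMod p, ψ (r, s, q) = 1 ∧ (r, s, q) ≠ 0 :=
    ⟨_, _, _, hrel, sub_ne_zero.2 hne⟩
  have hP : ∀ (y : Q) (i : ℕ) (j : ZMod p), (i : ZMod p) = j → y ^ i = y ^ j.val := fun y i j h =>
    RankThreeEss.pow_congr (hexp y) (by rw [h, ZMod.natCast_zmod_val])
  have htop : ∀ u v w : Q, (∀ e ∈ ({e₁, e₂, e₃} : Set Q), e ∈ Subgroup.closure {u, v, w}) →
      Subgroup.closure {u, v, w} = ⊤ := fun u v w h =>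
    top_le_iff.1 (hgen ▸ (Subgroup.closure_le _).2 h)
  by_cases hr : r = 0
  swap
  · have h1 := hzero _ hψ hrsq r⁻¹
    simp only [Prod.smul_mk, smul_eq_mul, inv_mul_cancel₀ hr] at h1
    set i := r⁻¹ * s
    set j := r⁻¹ * q
    simp only [ψ, ZMod.val_one, pow_one] at h1
    refine ⟨e₁ * e₃ ^ (-j).val, e₂ * e₃ ^ i.val, e₃, ?_, htop _ _ _ ?_⟩
    · refine commutatorElement_eq_one_iff_commute.1 ?_
      rw [PGroup.commutator_mul_left (hk _ _ _), PGroup.commutator_mul_right (hk _ _ _),
        PGroup.commutator_mul_right (hk _ _ _), ← h₁₂,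
        PGroup.commutator_pow_right (x := e₁) (hk _ _ _), ← h₁₃,
        PGroup.commutator_pow_left (hk _ _ _), PGroup.commutator_pow_left (hk _ _ _),
        commutatorElement_eq_one_iff_commute.2 ((Commute.refl e₃).pow_right i.val),
        one_pow, mul_one, ← commutatorElement_inv e₂ e₃, ← h₂₃]
      have e : (c₂₃⁻¹) ^ (-j).val = c₂₃ ^ j.val := by
        rw [inv_pow, inv_eq_iff_mul_eq_one, ← pow_add]
        exact pow_eq_one_of_dvd (hexp _) ((ZMod.natCast_eq_zero_iff _ _).1 (by
          rw [Nat.cast_add, ZMod.natCast_zmod_val, ZMod.natCast_zmod_val, neg_add_cancel]))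
      rw [e, (hk e₁ e₂ (c₂₃ ^ j.val)).mul_right ((hk e₁ e₃ (c₂₃ ^ j.val)).pow_right i.val) |>.eq]
      exact h1
    · set S := Subgroup.closure ({e₁ * e₃ ^ (-j).val, e₂ * e₃ ^ i.val, e₃} : Set Q) with hS
      have h3 : e₃ ∈ S := Subgroup.subset_closure (by simp)
      rintro e (rfl | rfl | rfl)
      · have hu : e * e₃ ^ (-j).val ∈ S := Subgroup.subset_closure (by simp)
        simpa using mul_mem hu (inv_mem (pow_mem h3 (-j).val))
      · have hu : e * e₃ ^ i.val ∈ S := Subgroup.subset_closure (by simp)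
        simpa using mul_mem hu (inv_mem (pow_mem h3 i.val))
      · exact h3
  subst hr
  by_cases hs : s = 0
  swap
  · have h1 := hzero _ hψ hrsq s⁻¹
    simp only [Prod.smul_mk, smul_eq_mul, mul_zero, inv_mul_cancel₀ hs] at h1
    set j := s⁻¹ * q
    simp only [ψ, ZMod.val_one, ZMod.val_zero, pow_zero, pow_one, one_mul] at h1
    refine ⟨e₁ * e₂ ^ j.val, e₃, e₂, ?_, htop _ _ _ ?_⟩
    · refine commutatorElement_eq_one_iff_commute.1 ?_
      rw [PGroup.commutator_mul_left (hk _ _ _), PGroup.commutator_pow_left (hk _ _ _), ← h₁₃, ← h₂₃,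
        ((hk e₁ e₃ c₂₃).pow_left j.val).eq]
      exact h1
    · set S := Subgroup.closure ({e₁ * e₂ ^ j.val, e₃, e₂} : Set Q) with hS
      have h3 : e₂ ∈ S := Subgroup.subset_closure (by simp)
      rintro e (rfl | rfl | rfl)
      · have hu : e * e₂ ^ j.val ∈ S := Subgroup.subset_closure (by simp)
        simpa using mul_mem hu (inv_mem (pow_mem h3 j.val))
      · exact h3
      · exact Subgroup.subset_closure (by simp)
  subst hs
  have hq : q ≠ 0 := fun h => hrsq (by subst h; rfl)
  have h1 := hzero _ hψ hrsq q⁻¹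
  simp only [Prod.smul_mk, smul_eq_mul, mul_zero, inv_mul_cancel₀ hq, ψ, ZMod.val_one, ZMod.val_zero,
    pow_zero, pow_one, one_mul] at h1
  refine ⟨e₂, e₃, e₁, commutatorElement_eq_one_iff_commute.1 h1, htop _ _ _ ?_⟩
  intro e he
  exact Subgroup.subset_closure (by
    simp only [Set.mem_insert_iff, Set.mem_singleton_iff] at he ⊢
    tauto)

variable (hidx : p ^ 3 ≤ (_root_.commutator Q).index)
include hidx

/-- A central element outside the derived subgroup, when the latter has order at most `p`. -/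
theorem exists_central {e₁ e₂ e₃ : Q} (hgen : Subgroup.closure {e₁, e₂, e₃} = ⊤)
    (hsmall : Nat.card (_root_.commutator Q) ≤ p) :
    ∃ z : Q, z ∈ Subgroup.center Q ∧ z ∉ _root_.commutator Q := by
  have hp1 := hp.out.one_lt
  obtain ⟨u, v, w, huv, hgen'⟩ := exists_pair hexp hcen hgen
    (hsmall.trans_lt (by simpa using Nat.pow_lt_pow_right hp1 (show 1 < 3 by norm_num)))
  set D := _root_.commutator Q with hD
  -- a generator in `D` would leave two generators for the quotient
  have hout : ∀ x y z : Q, Subgroup.closure {x, y, z} = ⊤ → x ∉ D := by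
    intro x y z hg hx
    have hc : ∀ a b : Q ⧸ D, Commute a b := fun a b =>
      QuotientGroup.induction_on a fun a => QuotientGroup.induction_on b fun b => by
        refine commutatorElement_eq_one_iff_commute.1 ?_
        show ⁅QuotientGroup.mk' D a, QuotientGroup.mk' D b⁆ = 1
        rw [← map_commutatorElement]
        exact (QuotientGroup.eq_one_iff _).2
          (Subgroup.commutator_mem_commutator (Subgroup.mem_top a) (Subgroup.mem_top b))
    have hle := card_le_sq (p := p) (Q := Q ⧸ D) (fun a => QuotientGroup.induction_on a fun a => by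
        rw [← QuotientGroup.mk_pow, hexp, QuotientGroup.mk_one]) hc
      (v := (y : Q ⧸ D)) (w := (z : Q ⧸ D)) (by
        have h1 := congrArg (Subgroup.map (QuotientGroup.mk' D)) hg
        rw [MonoidHom.map_closure, Subgroup.map_top_of_surjective _ (QuotientGroup.mk'_surjective D)] at h1
        refine top_le_iff.1 (h1.ge.trans ((Subgroup.closure_le _).2 ?_))
        rintro _ ⟨a, (rfl | rfl | rfl), rfl⟩
        · rw [SetLike.mem_coe, show QuotientGroup.mk' D a = 1 from (QuotientGroup.eq_one_iff _).2 hx]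
          exact one_mem _
        · exact Subgroup.subset_closure (by simp)
        · exact Subgroup.subset_closure (by simp))
    rw [← Subgroup.index_eq_card] at hle
    exact absurd (hidx.trans hle) (not_le.2 (Nat.pow_lt_pow_right hp1 (by norm_num)))
  have hcentral : ∀ y : Q, Commute y u → Commute y v → Commute y w → y ∈ Subgroup.center Q := by
    intro y hu hv hw
    have h : Subgroup.closure {u, v, w} ≤ Subgroup.centralizer {y} := (Subgroup.closure_le _).2 (by
      rintro a (rfl | rfl | rfl) <;> rw [SetLike.mem_coe, Subgroup.mem_centralizer_singleton_iff]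
      exacts [hu.eq.symm, hv.eq.symm, hw.eq.symm])
    refine Subgroup.mem_center_iff.2 fun g => ?_
    exact Subgroup.mem_centralizer_singleton_iff.1 (h (hgen'.ge (Subgroup.mem_top g)))
  have hk := commute_comm hexp hcen
  have huD : ⁅u, w⁆ ∈ D := Subgroup.commutator_mem_commutator (Subgroup.mem_top u) (Subgroup.mem_top w)
  by_cases huw : ⁅u, w⁆ = 1
  · exact ⟨u, hcentral u (Commute.refl u) huv (commutatorElement_eq_one_iff_commute.1 huw), hout u v w hgen'⟩
  have hz : Subgroup.zpowers ⁅u, w⁆ = D :=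
    Subgroup.eq_of_le_of_card_ge (Subgroup.zpowers_le.2 huD)
      (by rw [Nat.card_zpowers, orderOf_eq_prime (hexp _) huw]; exact hsmall)
  obtain ⟨i, hi⟩ : ∃ i : ℕ, ⁅u, w⁆ ^ i = ⁅v, w⁆ := mem_powers_iff_mem_zpowers.2 (hz.ge
    (Subgroup.commutator_mem_commutator (Subgroup.mem_top v) (Subgroup.mem_top w)))
  set y := v * (u ^ i)⁻¹ with hy
  refine ⟨y, hcentral y ?_ ?_ ?_, hout y u w ?_⟩
  · exact huv.symm.mul_left ((Commute.refl u).pow_left i).inv_left
  · exact (Commute.refl v).mul_left (huv.pow_left i).inv_left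
  · refine commutatorElement_eq_one_iff_commute.1 ?_
    have h1 : ⁅y, w⁆ * ⁅u ^ i, w⁆ = ⁅v, w⁆ := by
      have := PGroup.commutator_mul_left (x := y) (x' := u ^ i) (y := w) (hk _ _ _)
      rw [hy, inv_mul_cancel_right] at this
      rw [this]; exact hk _ _ _
    rw [PGroup.commutator_pow_left (hk _ _ _), hi] at h1
    exact mul_eq_right.1 h1
  · refine top_le_iff.1 (hgen' ▸ (Subgroup.closure_le _).2 ?_)
    set S := Subgroup.closure ({y, u, w} : Set Q) with hS
    have hu : u ∈ S := Subgroup.subset_closure (by simp)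
    rintro a (rfl | rfl | rfl)
    · exact hu
    · have h1 : y ∈ S := Subgroup.subset_closure (by simp)
      simpa [hy] using mul_mem h1 (pow_mem hu i)
    · exact Subgroup.subset_closure (by simp)

/-- In sectional rank three the derived subgroup has order at most `p`. -/
theorem card_commutator_le {N : Type*} [Group N] (hsr : Cfsg.SectionalPRankLE p 3 N) (f : N →* Q)
    (hf : Function.Surjective f) {e₁ e₂ e₃ : Q} (hgen : Subgroup.closure {e₁, e₂, e₃} = ⊤) :
    Nat.card (_root_.commutator Q) ≤ p := by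
  have hp1 := hp.out.one_lt
  have hQ : IsPGroup p Q := fun q => ⟨1, by rw [pow_one]; exact hexp q⟩
  set D := _root_.commutator Q with hD
  by_contra hlt
  have h2 : p ^ 2 ≤ Nat.card D := by
    obtain ⟨n, hn⟩ := PGroup.exists_subgroup_card_eq_pow hQ D
    rw [hn] at hlt ⊢
    refine Nat.pow_le_pow_right hp.out.pos ?_
    by_contra h
    refine hlt ?_
    calc p ^ n ≤ p ^ 1 := Nat.pow_le_pow_right hp.out.pos (by omega)
      _ = p := pow_one p
  have hDc : D ≤ Subgroup.center Q := by
    rw [hD, _root_.commutator_def, Subgroup.commutator_le]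
    exact fun u _ v _ => hcen u v
  -- an abelian subgroup of order at least `p ^ 4`
  suffices h : ∃ s : Set Q, (∀ u ∈ s, ∀ v ∈ s, Commute u v) ∧
      p ^ 4 ≤ Nat.card (Subgroup.closure (s ∪ D) : Subgroup Q) by
    obtain ⟨s, hs, hcard⟩ := h
    set A := Subgroup.closure (s ∪ D : Set Q) with hA
    have hle := RankThreeEss.card_range_le hsr (U := A.comap f) (f.comp (A.comap f).subtype) (fun a b => by
        refine (commute_of_closure (G := A) (MonoidHom.id Q |>.comp A.subtype)
          (s := A.subtype ⁻¹' (s ∪ D)) (Subgroup.closure_preimage_eq_top (s ∪ (D : Set Q))) ?_ ⟨f a, a.2⟩ ⟨f b, b.2⟩).eq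
        rintro ⟨u, _⟩ hu ⟨v, _⟩ hv
        show Commute u v
        rcases hu with hu | hu
        · rcases hv with hv | hv
          · exact hs u hu v hv
          · exact Subgroup.mem_center_iff.1 (hDc hv) u
        · exact (Subgroup.mem_center_iff.1 (hDc hu) v).symm)
      fun a => hexp _
    rw [MonoidHom.range_comp, Subgroup.range_subtype, Subgroup.map_comap_eq_self_of_surjective hf] at hle
    exact absurd (hcard.trans hle) (not_le.2 (Nat.pow_lt_pow_right hp1 (by norm_num)))
  by_cases hbig : p ^ 3 ≤ Nat.card D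
  · obtain ⟨e, he⟩ : ∃ e, e ∉ D := by
      by_contra h
      push Not at h
      rw [show D = ⊤ from (Subgroup.eq_top_iff' D).2 h, Subgroup.index_top] at hidx
      exact absurd hidx (not_le.2 (Nat.one_lt_pow (by norm_num) hp1))
    refine ⟨{e}, by rintro u rfl v rfl; exact Commute.refl _, ?_⟩
    have hlt' : D < Subgroup.closure ({e} ∪ D) := SetLike.lt_iff_le_and_exists.2
      ⟨fun d hd => Subgroup.subset_closure (Or.inr hd), e, Subgroup.subset_closure (Or.inl rfl), he⟩
    have := PGroup.mul_card_le_of_lt hQ hlt'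
    rw [pow_succ']
    exact le_trans (Nat.mul_le_mul le_rfl hbig) this
  · obtain ⟨u, v, w, huv, hgen'⟩ := exists_pair hexp hcen hgen (not_le.1 hbig)
    refine ⟨{u, v}, ?_, ?_⟩
    · rintro a (rfl | rfl) b (rfl | rfl)
      exacts [Commute.refl _, huv, huv.symm, Commute.refl _]
    set A := Subgroup.closure ({u, v} ∪ D : Set Q) with hA
    haveI : A.Normal := Subgroup.Normal.of_commutator_le (G := Q) (H := A) fun d hd => Subgroup.subset_closure (Or.inr hd)
    have hi : A.index ≤ p := index_le_prime hexp (w := w) (top_le_iff.1 (hgen' ▸ (Subgroup.closure_le _).2 (by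
      rintro a (rfl | rfl | rfl)
      · exact Subgroup.mem_sup_left (Subgroup.subset_closure (Or.inl (by simp)))
      · exact Subgroup.mem_sup_left (Subgroup.subset_closure (Or.inl (by simp)))
      · exact Subgroup.mem_sup_right (Subgroup.mem_zpowers _))))
    have h1 : Nat.card D * p ^ 3 ≤ Nat.card A * p := by
      refine le_trans (Nat.mul_le_mul le_rfl hidx) ?_
      rw [D.card_mul_index, ← A.card_mul_index]
      exact Nat.mul_le_mul le_rfl hi
    refine Nat.le_of_mul_le_mul_right (le_trans ?_ h1) hp.out.pos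
    calc p ^ 4 * p = p ^ 2 * p ^ 3 := by ring
      _ ≤ Nat.card D * p ^ 3 := Nat.mul_le_mul h2 le_rfl

end

end Cfsg.Agent.SectionalThree
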