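import Cfsg.Agent.Lib.SectionalThree.TwoGen
import Cfsg.Agent.Lib.SectionalThree.Commutator
import Cfsg.Agent.Lib.RankThreeEss.Fusion
import Cfsg.Agent.Lib.MaxClass.SmallEssential

/-!
# Essential subgroups with two generators that are not pearls

`twoEss` : such a subgroup is the centralizer in `S` of the fourth term of the lower central series of `S`.
-/

set_option autoImplicit false
set_option linter.unusedSectionVars false
set_option linter.style.haveILetI false
set_option maxHeartbeats 1000000

namespace Cfsg.Agent.SectionalThree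

open Cfsg Cfsg.FusionSystem Cfsg.Agent.Fusion
open scoped commutatorElement

universe u

variable {p : ℕ} [hp : Fact p.Prime] {Ω : Type u} [Group Ω] {S : Subgroup Ω} [Finite S]

/-- An automorphism of order prime to `p` trivial on the Frattini quotient is trivial. -/
theorem eq_one_of_frattini {T : Type*} [Group T] [Finite T] (hT : IsPGroup p T) {α : MulAut T}
    (hc : Nat.Coprime (orderOf α) p) (hα : RankTwo.quotientAut (frattini T) α = 1) : α = 1 := by
  by_contra hne
  obtain ⟨q, hq, hqd⟩ := Nat.exists_prime_and_dvd (fun h => hne (orderOf_eq_one_iff.1 h))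
  haveI := Fact.mk hq
  have hqp : q ≠ p := by
    rintro rfl
    exact hq.ne_one (Nat.eq_one_of_dvd_coprimes hc hqd dvd_rfl)
  have h1 : α ^ (orderOf α / q) = 1 := by
    refine RankTwo.aut_eq_one_of_frattini hT hqp
      (by rw [← pow_mul, Nat.div_mul_cancel hqd, pow_orderOf_eq_one]) fun v => QuotientGroup.eq.1 ?_
    show _ = RankTwo.quotientAut (frattini T) (α ^ (orderOf α / q)) (v : T ⧸ frattini T)
    rw [map_pow, hα, one_pow]
    rfl
  have h2 := orderOf_dvd_of_pow_eq_one h1
  have h3 : orderOf α / q < orderOf α := Nat.div_lt_self (orderOf_pos α) hq.one_lt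
  have h4 : 0 < orderOf α / q := Nat.div_pos (Nat.le_of_dvd (orderOf_pos α) hqd) hq.pos
  exact absurd (Nat.le_of_dvd h4 h2) (not_le.2 h3)

/-- A pearl. -/
def IsPearl (p : ℕ) {Ω : Type u} [Group Ω] (E : Subgroup Ω) : Prop :=
  (Cfsg.IsElementaryAbelian p E ∧ Nat.card E = p ^ 2) ∨
    (Cfsg.IsExtraspecial p ↥E ∧ Nat.card E = p ^ 3 ∧ ∀ x ∈ E, x ^ p = 1)

/-- What is known of an essential subgroup with two generators that is no pearl. -/
structure TwoEssFacts (p : ℕ) {Ω : Type u} [Group Ω] (S E : Subgroup Ω) : Prop where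
  sub : E.subgroupOf S =
    Subgroup.centralizer (((⊤ : Subgroup S).lowerCentralSeries 3 : Subgroup S) : Set S)
  index_le : (frattini S).index ≤ p ^ 2
  card_eq : Nat.card E = p ^ 5
  card_S : Nat.card S = p ^ 6
  exists_exp : ∃ Z : Subgroup S, Z ≤ frattini S ∧ Nat.card Z = p ^ 3 ∧ ∀ z ∈ Z, z ^ p = 1

theorem centralizer_lcs_characteristic {G : Type*} [Group G] (n : ℕ) :
    (Subgroup.centralizer (((⊤ : Subgroup G).lowerCentralSeries n : Subgroup G) : Set G)).Characteristic :=
  characteristic_of_mem fun β v hv => by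
    refine Subgroup.mem_centralizer_iff.2 fun w hw => ?_
    have hc : ((⊤ : Subgroup G).lowerCentralSeries n).Characteristic := inferInstance
    have h := Subgroup.mem_centralizer_iff.1 hv (β⁻¹ w) (mem_iff_of_characteristic hc β⁻¹ hw)
    have h' := congrArg β h
    rwa [map_mul, map_mul, MulAut.apply_inv_self] at h'

theorem twoEss (five : 5 ≤ p) (hS : IsPGroup p S) (hsr : Cfsg.SectionalPRankLE p 3 S) {F : FusionSystem S}
    (hF : F.IsSaturated p) {E : Subgroup Ω} (hE : F.IsEssential p E) (hrk : (frattini E).index = p ^ 2)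
    (hnp : ¬ IsPearl p E) : TwoEssFacts p S E := by
  have hp2 : p ≠ 2 := by omega
  have hp1 := hp.out.one_lt
  have hES : E ≤ S := hE.1.1
  haveI := finite_mulAut (S := S) hES
  haveI := finite_of_le (S := S) hES
  have hEp : IsPGroup p E := hS.to_le hES
  haveI : Finite (E ⧸ frattini E) := Finite.of_surjective _ (QuotientGroup.mk'_surjective (frattini E))
  have hV : Nat.card (E ⧸ frattini E) = p ^ 2 := by rw [← Subgroup.index_eq_card, hrk]
  have hVp : ∀ v : E ⧸ frattini E, v ^ p = 1 := fun v => QuotientGroup.induction_on v fun v =>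
    (QuotientGroup.eq_one_iff _).2 (PGroup.pow_mem_frattini hEp v)
  have hVc : ∀ u v : E ⧸ frattini E, u * v = v * u := fun u v =>
    QuotientGroup.induction_on u fun u => QuotientGroup.induction_on v fun v => by
      rw [← commutatorElement_eq_one_iff_mul_comm]
      exact (QuotientGroup.eq_one_iff _).2 (PGroup.commutatorElement_mem_frattini hEp u v)
  let A : Resist.Act p F E (E ⧸ frattini E) :=
    { res := RankTwo.quotientAut (frattini E)
      faithful := fun α _ hc hα => eq_one_of_frattini hEp hc hα }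
  obtain ⟨g₀, hg₀, hg₀E⟩ := SetLike.exists_of_lt (lt_normalizerIn hS le_rfl (Resist.lt_of_essential hS hF hE))
  obtain ⟨i, e1, e2, he1, he2, hxE, -, hx1, hx2, hall, -⟩ :=
    A.core hS hF hE hV hVp hVc five (g := ⟨g₀, hg₀⟩) hg₀E
  set x : normalizerIn S E := (⟨g₀, hg₀⟩ : normalizerIn S E) ^ i with hx
  clear_value x
  obtain ⟨a, rfl⟩ := QuotientGroup.mk_surjective e2
  have hmk : ∀ (n : normalizerIn S E) (v : E),
      A.r n (v : E ⧸ frattini E) = ((normConj S E n v : E) : E ⧸ frattini E) := fun n v => rfl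
  set α := normConj S E x with hα
  set b := a⁻¹ * α a with hb
  have hbe : (b : E ⧸ frattini E) = e1 := by
    rw [hb, QuotientGroup.mk_mul, QuotientGroup.mk_inv, ← hmk x a, hx2, hVc e1, inv_mul_cancel_left]
  have hbΦ : b ∉ frattini E := fun h => he1 (hbe ▸ (QuotientGroup.eq_one_iff b).2 h)
  have hbb : b⁻¹ * α b ∈ frattini E := QuotientGroup.eq.1 (by
    show (b : E ⧸ frattini E) = ((normConj S E x b : E) : E ⧸ frattini E)
    rw [← hmk, hbe, hx1])
  have hfix : ∀ n : normalizerIn S E, A.r n e1 = e1 := by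
    intro n
    obtain ⟨m, hm⟩ := hall n
    have h1 := (A.r_eq_one_iff hS hF hE hV hVp hVc).2 hm
    rw [map_mul, map_inv, map_pow, mul_inv_eq_one] at h1
    rw [h1]
    exact (Resist.transvection_pow hV hVp hVc hx1 hx2 m).1
  have hxp : ((x ^ p : normalizerIn S E) : Ω) ∈ E := by
    refine A.r_eq_one hS hE ?_
    obtain ⟨h1, h2⟩ := Resist.transvection_pow hV hVp hVc hx1 hx2 p
    refine Resist.plane_ext hV hVp hVc he1 he2 ?_ ?_
    · rw [map_pow, h1, MulAut.one_apply]
    · rw [map_pow, h2, hVp, one_mul, MulAut.one_apply]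
  have hαk : ∃ k : ℕ, α ^ p ^ k = 1 := by
    obtain ⟨k, hk⟩ := hS.to_le (inf_le_left : normalizerIn S E ≤ S) x
    exact ⟨k, by rw [hα]; exact ((map_pow (normConj S E) x _).symm.trans (congrArg (normConj S E) hk)).trans (map_one _)⟩
  have hαp : ∃ g : E, α ^ p = MulAut.conj g :=
    ⟨⟨_, hxp⟩, by rw [hα, ← map_pow]; exact MulEquiv.ext fun _ => Subtype.ext rfl⟩
  have hchar : ∀ U : Subgroup E, U.Characteristic → frattini E ≤ U → U ≠ frattini E → U = ⊤ := by
    intro U hU hle hne
    have htop := A.eq_top_of_invariant hS hF hE hV hVp hVc (U.map (QuotientGroup.mk' (frattini E)))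
      (fun h => hne (le_antisymm (by
        rwa [Subgroup.map_eq_bot_iff, QuotientGroup.ker_mk'] at h) hle))
      (by
        rintro γ - _ ⟨v, hv, rfl⟩
        exact ⟨γ v, mem_iff_of_characteristic hU γ hv, rfl⟩)
    refine top_le_iff.1 fun v _ => ?_
    obtain ⟨w, hw, hwv⟩ := htop.ge (Subgroup.mem_top (v : E ⧸ frattini E))
    simpa using mul_mem hw (hle (QuotientGroup.eq.1 hwv))
  rcases shape_of_shear five hEp (RankThreeEss.sectional_of_le hsr hES) hrk hchar α hαk hαp a hbΦ hbb with
    hsmall | sh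
  · exfalso
    rcases MaxClassPower.small_cases (EssentialSmall.setting_of_essential hS hF hE) hp2 hsmall with
      ⟨hc, hab, he⟩ | ⟨hc, hex, he⟩ | ⟨hc, hab, he⟩
    · exact hnp (Or.inl ⟨⟨⟨⟨fun u v => hab u v⟩⟩, fun v hv => congrArg Subtype.val (he ⟨v, hv⟩)⟩, hc⟩)
    · refine hnp (Or.inr ⟨hex, hc, fun v hv => ?_⟩)
      have h := Monoid.pow_exponent_eq_one (⟨v, hv⟩ : E)
      rw [he] at h
      exact congrArg Subtype.val h
    · have hb0 : frattini E = ⊥ := le_bot_iff.1 (PGroup.frattini_le_of_quotient_elementary (p := p) (by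
        rw [_root_.commutator_def, Subgroup.commutator_le]
        intro u _ v _
        rw [Subgroup.mem_bot, commutatorElement_eq_one_iff_mul_comm]
        exact hab u v) fun v => Subgroup.mem_bot.2 (he v))
      rw [hb0, Subgroup.index_bot, hc] at hrk
      exact absurd (Nat.pow_right_injective hp.out.two_le hrk) (by norm_num)
  obtain ⟨hcard, hΦ3, hΦp, hΦeq, hψcen, hψeq, hmoved⟩ := sh
  set c := b⁻¹ * a * b * a⁻¹ with hc
  -- in the normalizer
  obtain ⟨N, hN⟩ : ∃ N, N = normalizerIn S E := ⟨_, rfl⟩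
  have hNS : N ≤ S := hN ▸ inf_le_left
  have hEN : E ≤ N := hN ▸ le_normalizerIn hES
  haveI := finite_of_le (S := S) hNS
  have hNp : IsPGroup p N := hS.to_le hNS
  let j : E →* N := Subgroup.inclusion hEN
  let toN : N → normalizerIn S E := fun n => ⟨n, hN.le n.2⟩
  have hconj : ∀ (n : N) (v : E), n * j v * n⁻¹ = j (normConj S E (toN n) v) := fun n v => Subtype.ext rfl
  have hjn : ∀ {U : Subgroup E}, U.Characteristic → (U.map j).Normal := fun {U} hU => ⟨by
    rintro _ ⟨v, hv, rfl⟩ n
    rw [hconj]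
    exact ⟨_, mem_iff_of_characteristic hU _ hv, rfl⟩⟩
  let xN : N := ⟨x, hN.ge x.2⟩
  set En := E.subgroupOf N with hEn
  have hEnj : En = (⊤ : Subgroup E).map j := by
    ext v
    exact ⟨fun hv => ⟨⟨v, hv⟩, trivial, Subtype.ext rfl⟩, fun ⟨w, _, hw⟩ => hw ▸ w.2⟩
  have hgen : ∀ n : N, ∃ m : ℕ, n * (xN ^ m)⁻¹ ∈ En := fun n => by
    obtain ⟨m, hm⟩ := hall (toN n)
    exact ⟨m, hm⟩
  have hji : Function.Injective j := Subgroup.inclusion_injective hEN
  have hcardj : ∀ U : Subgroup E, Nat.card (U.map j) = Nat.card U := fun U => Subgroup.card_map_of_injective hji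
  haveI hEnn : En.Normal := hEnj ▸ hjn Subgroup.topCharacteristic
  have hidxN : En.index = p := by
    have hz : Subgroup.zpowers (xN : N ⧸ En) = ⊤ := top_le_iff.1 fun q _ => by
      obtain ⟨n, rfl⟩ := QuotientGroup.mk_surjective q
      obtain ⟨m, hm⟩ := hgen n
      refine ⟨m, ?_⟩
      have h := (QuotientGroup.eq_one_iff _).2 hm
      rw [QuotientGroup.mk_mul, QuotientGroup.mk_inv, QuotientGroup.mk_pow, mul_inv_eq_one] at h
      show (xN : N ⧸ En) ^ (m : ℤ) = _
      rw [zpow_natCast, h]
    rw [Subgroup.index_eq_card, ← Subgroup.card_top (G := N ⧸ En), ← hz, Nat.card_zpowers]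
    refine orderOf_eq_prime ((QuotientGroup.eq_one_iff _).2 hxp) fun h => hxE ?_
    exact (QuotientGroup.eq_one_iff xN).1 h
  have hcardEn : Nat.card En = p ^ 5 := by
    rw [hEn, Nat.card_congr (Subgroup.subgroupOfEquivOfLe hEN).toEquiv, hcard]
  have hcardN : Nat.card N = p ^ 6 := by rw [← En.card_mul_index, hcardEn, hidxN, ← pow_succ]
  -- the series `L₁ > Φ > ψ`
  set UL := Subgroup.zpowers b ⊔ frattini E with hUL
  haveI hULn : UL.Normal := Subgroup.Normal.of_commutator_le (G := E) (H := UL)
    ((PGroup.commutator_le_frattini hEp).trans le_sup_right)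
  haveI hL1n : (UL.map j).Normal := ⟨by
    rintro _ ⟨v, hv, rfl⟩ n
    rw [hconj]
    refine ⟨_, ?_, rfl⟩
    have hle : UL ≤ UL.comap (normConj S E (toN n)).toMonoidHom := by
      refine sup_le (Subgroup.zpowers_le.2 ?_) (fun w hw => Subgroup.mem_comap.2
        (Subgroup.mem_sup_right (mem_iff_of_characteristic inferInstance _ hw)))
      have h1 : (b : E ⧸ frattini E) = ((normConj S E (toN n) b : E) : E ⧸ frattini E) := by
        rw [← hmk, hbe, hfix]
      have h2 := mul_mem (Subgroup.mem_sup_left (T := frattini E) (Subgroup.mem_zpowers b))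
        (Subgroup.mem_sup_right (QuotientGroup.eq.1 h1))
      rw [mul_inv_cancel_left] at h2
      exact h2
    exact hle hv⟩
  haveI hΦn : ((frattini E).map j).Normal := hjn inferInstance
  haveI hψn : ((RankThreeEss.psi p E).map j).Normal := hjn RankThreeEss.psi_characteristic
  have hL1card : Nat.card (UL.map j) = p ^ 4 := by
    rw [hcardj]
    have h1 : p ^ 4 ≤ Nat.card UL := by
      have := PGroup.mul_card_le_of_lt hEp (SetLike.lt_iff_le_and_exists.2
        ⟨le_sup_right, b, Subgroup.mem_sup_left (Subgroup.mem_zpowers b), hbΦ⟩ : frattini E < UL)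
      rw [hΦ3] at this
      rwa [pow_succ']
    have hne : UL ≠ ⊤ := fun h => by
      refine he2 ?_
      obtain ⟨y, hy, f, hf, he⟩ := Subgroup.mem_sup_of_normal_right.1 (h.ge (Subgroup.mem_top a) : a ∈ UL)
      obtain ⟨k, rfl⟩ := Subgroup.mem_zpowers_iff.1 hy
      refine ⟨k, ?_⟩
      show e1 ^ k = _
      rw [← he, QuotientGroup.mk_mul, QuotientGroup.mk_zpow, hbe, (QuotientGroup.eq_one_iff f).2 hf, mul_one]
    have h2 := PGroup.mul_card_le_of_lt hEp (lt_top_iff_ne_top.2 hne)
    rw [Subgroup.card_top, hcard, pow_succ'] at h2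
    exact le_antisymm (Nat.le_of_mul_le_mul_left h2 hp.out.pos) h1
  have hψ2 : p ^ 3 ≤ p * Nat.card (RankThreeEss.psi p E) := by
    rw [← hΦ3]
    set ψ := RankThreeEss.psi p E with hψ
    haveI : ψ.Characteristic := RankThreeEss.psi_characteristic
    let π := QuotientGroup.mk' ψ
    have hc' : c ^ p ∈ ψ := by
      rw [hΦp c]; · exact one_mem _
      have e : c = ⁅b⁻¹, a⁆ := by rw [hc, commutatorElement_def, inv_inv]
      rw [e]; exact PGroup.commutatorElement_mem_frattini hEp _ _
    have hle : (frattini E).map π ≤ Subgroup.zpowers (π c) := by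
      refine (Subgroup.map_mono hΦeq).trans ?_
      rw [Subgroup.map_sup, MonoidHom.map_closure, Set.image_singleton, QuotientGroup.map_mk'_self, sup_bot_eq,
        ← Subgroup.zpowers_eq_closure]
    have h1 : Nat.card ((frattini E).map π) ≤ p := by
      refine (Subgroup.card_le_of_le hle).trans ?_
      rw [Nat.card_zpowers]
      refine orderOf_le_of_pow_eq_one hp.out.pos ?_
      rw [← map_pow]
      exact (QuotientGroup.eq_one_iff _).2 hc'
    have h := FusionAbelianIndex.card_comap π ((frattini E).map π)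
    rw [QuotientGroup.ker_mk', inf_eq_left.2 (Subgroup.map_le_range _ _), Subgroup.comap_map_eq_self
      (by rw [QuotientGroup.ker_mk']; exact RankThreeEss.psi_le_frattini)] at h
    rw [h, mul_comm p]
    exact Nat.mul_le_mul le_rfl h1
  have hcm1 : _root_.commutator N ≤ UL.map j := by
    haveI : IsMulCommutative (N ⧸ UL.map j) := IsPGroup.isMulCommutative_of_card_eq_prime_sq (p := p) (by
      have h := (UL.map j).card_mul_index
      rw [hL1card, hcardN, show p ^ 6 = p ^ 4 * p ^ 2 by ring] at h
      rw [← Subgroup.index_eq_card]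
      exact Nat.eq_of_mul_eq_mul_left (pow_pos hp.out.pos 4) h)
    exact Subgroup.Normal.quotient_commutative_iff_commutator_le.1 inferInstance
  have hlcs3 : (⊤ : Subgroup N).lowerCentralSeries 3 = (RankThreeEss.psi p E).map j := by
    set L := (⊤ : Subgroup N).lowerCentralSeries with hL
    have h1 : L 1 = _root_.commutator N := by
      rw [hL, Subgroup.lowerCentralSeries_succ, Subgroup.lowerCentralSeries_zero, _root_.commutator_def]
    have hsucc : ∀ m, L (m + 1) = ⁅L m, (⊤ : Subgroup N)⁆ := fun m => Subgroup.lowerCentralSeries_succ _ m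
    refine le_antisymm ?_ ?_
    · have h2 : L 2 ≤ (frattini E).map j := by
        rw [hsucc 1, h1, Subgroup.commutator_le]
        intro v hv g _
        exact commutator_mem_of_card_le hNp (Subgroup.map_mono le_sup_right)
          (by rw [hL1card, hcardj, hΦ3, ← pow_succ']) (hcm1 hv) g
      rw [hsucc 2, Subgroup.commutator_le]
      intro v hv g _
      exact commutator_mem_of_card_le hNp (Subgroup.map_mono RankThreeEss.psi_le_frattini)
        (by rw [hcardj, hcardj, hΦ3]; exact hψ2) (h2 hv) g
    · have hbL : j b ∈ L 1 := by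
        have hjb : j b = ⁅(j a)⁻¹, xN⁆ := Subtype.ext (by
          simp only [commutatorElement_def, inv_inv, Subgroup.coe_mul, Subgroup.coe_inv]
          show ((a : Ω))⁻¹ * ((x : Ω) * a * (x : Ω)⁻¹) = (a : Ω)⁻¹ * x * a * (x : Ω)⁻¹
          group)
        rw [h1, hjb]
        exact Subgroup.commutator_mem_commutator (Subgroup.mem_top _) (Subgroup.mem_top _)
      have hcL : j c ∈ L 2 := by
        rw [hsucc 1, show c = ⁅b⁻¹, a⁆ by rw [hc, commutatorElement_def, inv_inv], map_commutatorElement]
        exact Subgroup.commutator_mem_commutator (by rw [map_inv]; exact inv_mem hbL) (Subgroup.mem_top _)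
      refine (Subgroup.map_mono hψeq).trans ?_
      rw [MonoidHom.map_closure, Subgroup.closure_le]
      rintro _ ⟨v, (rfl | rfl), rfl⟩ <;>
      · rw [SetLike.mem_coe, hsucc 2, map_commutatorElement]
        exact Subgroup.commutator_mem_commutator hcL (Subgroup.mem_top _)
  have hcent : En = Subgroup.centralizer (((⊤ : Subgroup N).lowerCentralSeries 3 : Subgroup N) : Set N) := by
    rw [hlcs3]
    set C := Subgroup.centralizer (((RankThreeEss.psi p E).map j : Subgroup N) : Set N) with hC
    have hle : En ≤ C := by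
      rw [hEnj]
      rintro _ ⟨v, -, rfl⟩
      refine Subgroup.mem_centralizer_iff.2 ?_
      rintro _ ⟨w, hw, rfl⟩
      rw [← map_mul, ← map_mul, Subgroup.mem_center_iff.1 (hψcen hw) v]
    refine (PGroup.eq_of_le_of_card_le hle ?_)
    by_contra hlt
    have hne : En ≠ C := fun h => hlt (h ▸ le_rfl)
    have hbig := PGroup.mul_card_le_of_lt hNp (lt_of_le_of_ne hle hne)
    have htop : C = ⊤ := PGroup.eq_of_le_of_card_le le_top (by
      rw [Subgroup.card_top, ← En.card_mul_index, hidxN, mul_comm]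
      exact hbig)
    have hu : ⁅c, a⁆ ∈ RankThreeEss.psi p E := RankThreeEss.commutator_mem_psi (by
      have e : c = ⁅b⁻¹, a⁆ := by rw [hc, commutatorElement_def, inv_inv]
      rw [e]; exact PGroup.commutatorElement_mem_frattini hEp _ _) a
    have h := Subgroup.mem_centralizer_iff.1 (htop.ge (Subgroup.mem_top xN) : xN ∈ C) (j ⁅c, a⁆) ⟨_, hu, rfl⟩
    refine hmoved (Subtype.ext ?_)
    show (x : Ω) * (⁅c, a⁆ : E) * (x : Ω)⁻¹ = _
    have h' : ((⁅c, a⁆ : E) : Ω) * x = x * (⁅c, a⁆ : E) := congrArg Subtype.val h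
    rw [← h', mul_inv_cancel_right]
  -- `N = S`
  have hNeq : N = S := by
    by_contra hne
    obtain ⟨s, hs, hsN⟩ := SetLike.exists_of_lt (lt_normalizerIn hS le_rfl (lt_of_le_of_ne hNS hne))
    refine hsN (hN ▸ ⟨hs.1, ?_⟩)
    refine RankThreeEss.mem_normalizer_iff_of_finite.2 fun v hv => ?_
    have hch := centralizer_lcs_characteristic (G := N) 3
    rw [← hcent] at hch
    exact mem_iff_of_characteristic hch (normConj S N ⟨s, hs⟩) (show (⟨v, hEN hv⟩ : N) ∈ En from hv)
  subst hNeq
  refine ⟨hcent, ?_, by rw [hcard], hcardN, (frattini E).map j, ?_, by rw [hcardj, hΦ3], ?_⟩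
  · -- two generators
    set T := Subgroup.closure ({xN, j a} : Set N) with hT
    have haT : j a ∈ T := Subgroup.subset_closure (by simp)
    have hxT : xN ∈ T := Subgroup.subset_closure (by simp)
    have hbT : j b ∈ T := by
      have : j b = (j a)⁻¹ * (xN * j a * xN⁻¹) := Subtype.ext rfl
      rw [this]
      exact mul_mem (inv_mem haT) (mul_mem (mul_mem hxT haT) (inv_mem hxT))
    have hcT : j c ∈ T := by
      rw [hc, map_mul, map_mul, map_mul, map_inv, map_inv]
      exact mul_mem (mul_mem (mul_mem (inv_mem hbT) haT) hbT) (inv_mem haT)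
    have hΦT : frattini E ≤ T.comap j := by
      refine hΦeq.trans (sup_le ((Subgroup.closure_le _).2 ?_) (hψeq.trans ((Subgroup.closure_le _).2 ?_)))
      · rintro _ rfl; exact hcT
      · rintro _ (rfl | rfl) <;> rw [SetLike.mem_coe, Subgroup.mem_comap, map_commutatorElement,
          commutatorElement_def]
        · exact mul_mem (mul_mem (mul_mem hcT haT) (inv_mem hcT)) (inv_mem haT)
        · exact mul_mem (mul_mem (mul_mem hcT hbT) (inv_mem hcT)) (inv_mem hbT)
    have hET : T.comap j = ⊤ := by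
      have hlt1 : frattini E < UL := SetLike.lt_iff_le_and_exists.2
        ⟨le_sup_right, b, Subgroup.mem_sup_left (Subgroup.mem_zpowers b), hbΦ⟩
      refine PGroup.eq_of_le_of_card_le le_top ?_
      have hUT : UL ≤ T.comap j := sup_le (Subgroup.zpowers_le.2 hbT) hΦT
      have haU : a ∉ UL := fun h => by
        refine he2 ?_
        obtain ⟨y, hy, f, hf, he⟩ := Subgroup.mem_sup_of_normal_right.1 h
        obtain ⟨k, rfl⟩ := Subgroup.mem_zpowers_iff.1 hy
        refine ⟨k, ?_⟩
        show e1 ^ k = _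
        rw [← he, QuotientGroup.mk_mul, QuotientGroup.mk_zpow, hbe, (QuotientGroup.eq_one_iff f).2 hf, mul_one]
      have := PGroup.mul_card_le_of_lt hEp (SetLike.lt_iff_le_and_exists.2 ⟨hUT, a, haT, haU⟩ : UL < T.comap j)
      rw [← hcardj, hL1card, ← pow_succ'] at this
      rwa [Subgroup.card_top, hcard]
    have hTtop : T = ⊤ := top_le_iff.1 fun n _ => by
      obtain ⟨m, hm⟩ := hgen n
      rw [hEnj] at hm
      obtain ⟨w, -, hw⟩ := hm
      have hwT : j w ∈ T := (hET.ge (Subgroup.mem_top w) : w ∈ T.comap j)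
      rw [hw] at hwT
      simpa using mul_mem hwT (pow_mem hxT m)
    rw [Subgroup.index_eq_card]
    refine card_le_sq (fun q => QuotientGroup.induction_on q fun q => by
        rw [← QuotientGroup.mk_pow]; exact (QuotientGroup.eq_one_iff _).2 (PGroup.pow_mem_frattini hNp q))
      (fun u v => QuotientGroup.induction_on u fun u => QuotientGroup.induction_on v fun v => by
        refine commutatorElement_eq_one_iff_commute.1 ?_
        exact (QuotientGroup.eq_one_iff _).2 (PGroup.commutatorElement_mem_frattini hNp u v))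
      (v := (xN : N ⧸ frattini N)) (w := (j a : N ⧸ frattini N)) ?_
    have h1 := congrArg (Subgroup.map (QuotientGroup.mk' (frattini N))) hTtop
    rw [hT, MonoidHom.map_closure, Set.image_pair,
      Subgroup.map_top_of_surjective _ (QuotientGroup.mk'_surjective _)] at h1
    exact h1
  · refine (Subgroup.map_mono hΦeq).trans ?_
    rw [Subgroup.map_sup, ← hlcs3, MonoidHom.map_closure, Set.image_singleton]
    refine sup_le ((Subgroup.closure_le _).2 ?_) ?_
    · rintro _ rfl
      rw [SetLike.mem_coe, show c = ⁅b⁻¹, a⁆ by rw [hc, commutatorElement_def, inv_inv], map_commutatorElement]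
      exact PGroup.commutatorElement_mem_frattini hNp _ _
    · rw [Subgroup.lowerCentralSeries_succ, Subgroup.commutator_le]
      exact fun v _ w _ => PGroup.commutatorElement_mem_frattini hNp v w
  · rintro _ ⟨f, hf, rfl⟩
    rw [← map_pow, hΦp f hf, map_one]

end Cfsg.Agent.SectionalThree
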