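import Cfsg.Agent.Lib.SectionalThree.RegularModel
import Cfsg.Agent.Lib.Linear.SpBlocks
import Cfsg.Agent.Lib.GLOrder.Symplectic

/-!
# A Sylow `p`-subgroup of `Sp(4,p)`

`exists_sylow_equiv` : for an odd prime `p`, every group with the presentation `RegularModel p` is isomorphic
to a Sylow `p`-subgroup of `Sp(4,p)`.
-/

set_option autoImplicit false
set_option maxHeartbeats 1000000

namespace Cfsg.Agent.SectionalThree

open Matrix Cfsg.Agent.Linear

variable {p : ℕ} [hp : Fact p.Prime]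

local notation "M₂" => Matrix (Fin 2) (Fin 2) (ZMod p)

theorem sieg_pow {B : M₂} (hB : B.IsSymm) (n : ℕ) :
    spSiegel B hB ^ n = spSiegel ((n : ZMod p) • B) (hB.smul _) := by
  induction n with
  | zero =>
    rw [pow_zero, ← spSiegel_zero]
    congr 1
    rw [Nat.cast_zero, zero_smul]
  | succ n ih =>
    rw [pow_succ, ih, spSiegel_mul]
    congr 1
    rw [Nat.cast_succ, add_smul, one_smul]

theorem sieg_comm {B B' : M₂} (hB : B.IsSymm) (hB' : B'.IsSymm) :
    Commute (spSiegel B hB) (spSiegel B' hB') := by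
  show _ * _ = _ * _
  rw [spSiegel_mul, spSiegel_mul]
  congr 1
  exact add_comm _ _

/-- The unipotent element of the Levi complement. -/
def shear (t : ZMod p) : GL (Fin 2) (ZMod p) where
  val := !![1, t; 0, 1]
  inv := !![1, -t; 0, 1]
  val_inv := by ext i j; fin_cases i <;> fin_cases j <;> simp [Matrix.mul_apply, Fin.sum_univ_two]
  inv_val := by ext i j; fin_cases i <;> fin_cases j <;> simp [Matrix.mul_apply, Fin.sum_univ_two]

theorem shear_pow (n : ℕ) : (shear (1 : ZMod p)) ^ n = shear (n : ZMod p) := by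
  induction n with
  | zero => exact Units.ext (by ext i j; fin_cases i <;> fin_cases j <;> simp [shear])
  | succ n ih =>
    rw [pow_succ, ih]
    refine Units.ext ?_
    ext i j
    fin_cases i <;> fin_cases j <;> simp [shear, Matrix.mul_apply, Fin.sum_univ_two] <;> ring

theorem conj_sieg (t : ZMod p) {B : M₂} (hB : B.IsSymm) {B' : M₂} (hB' : B'.IsSymm)
    (h : (shear t).1 * B * (shear t).1ᵀ = B') :
    spLevi (shear t) * spSiegel B hB * (spLevi (shear t))⁻¹ = spSiegel B' hB' := by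
  subst h
  exact spLevi_conj_spSiegel _ hB

/-- Every such group is a Sylow subgroup of `Sp(4,p)`. -/
theorem exists_sylow_equiv (hp2 : p ≠ 2) {G : Type*} [Group G] (M : RegularModel p G) :
    ∃ P : Sylow p ↥(Matrix.symplecticGroup (Fin 2) (ZMod p)),
      Nonempty (G ≃* ↥(P : Subgroup ↥(Matrix.symplecticGroup (Fin 2) (ZMod p)))) := by
  have htwo : (2 : ZMod p) ≠ 0 := by
    intro h
    have := (ZMod.natCast_eq_zero_iff 2 p).1 (by exact_mod_cast h)
    exact hp2 ((Nat.prime_dvd_prime_iff_eq hp.out Nat.prime_two).1 this)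
  let B₀ : M₂ := !![0, 0; 0, 1]
  let B₁ : M₂ := !![1, 1; 1, 0]
  let B₂ : M₂ := !![2, 0; 0, 0]
  have s₀ : B₀.IsSymm := by ext i j; fin_cases i <;> fin_cases j <;> rfl
  have s₁ : B₁.IsSymm := by ext i j; fin_cases i <;> fin_cases j <;> rfl
  have s₂ : B₂.IsSymm := by ext i j; fin_cases i <;> fin_cases j <;> rfl
  let e := spEquiv 2 (ZMod p)
  let a := spSiegel B₀ s₀
  let b := spSiegel B₁ s₁
  let c := spSiegel B₂ s₂
  let x := spLevi (shear (1 : ZMod p))
  let U := Subgroup.closure ({a, b, c, x} : Set (Cfsg.spGL 2 (ZMod p)))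
  have hsp : ∀ (B : M₂) (hB : B.IsSymm), spSiegel B hB ^ p = 1 := fun B hB => by
    rw [sieg_pow, ← spSiegel_zero]
    congr 1
    rw [ZMod.natCast_self, zero_smul]
  have hxp : x ^ p = 1 := by
    show spLevi _ ^ p = 1
    rw [← map_pow, shear_pow, ← map_one spLevi]
    congr 1
    refine Units.ext ?_
    ext i j
    fin_cases i <;> fin_cases j <;> simp [shear]
  have hxa : x * a * x⁻¹ = a * b := by
    rw [spSiegel_mul]
    refine conj_sieg _ _ _ ?_
    ext i j
    fin_cases i <;> fin_cases j <;> simp [shear, B₀, B₁, Matrix.mul_apply, Fin.sum_univ_two]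
  have hxb : x * b * x⁻¹ = b * c := by
    rw [spSiegel_mul]
    refine conj_sieg _ _ _ ?_
    ext i j
    fin_cases i <;> fin_cases j <;> simp [shear, B₁, B₂, Matrix.mul_apply, Fin.sum_univ_two] <;> ring
  have hxc : x * c * x⁻¹ = c := by
    refine conj_sieg _ _ _ ?_
    ext i j
    fin_cases i <;> fin_cases j <;> simp [shear, B₂, Matrix.mul_apply, Fin.sum_univ_two]
  have ha : a ∈ U := Subgroup.subset_closure (by simp)
  have hb : b ∈ U := Subgroup.subset_closure (by simp)
  have hc : c ∈ U := Subgroup.subset_closure (by simp)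
  have hx : x ∈ U := Subgroup.subset_closure (by simp)
  -- the normal forms exhaust the generated subgroup
  let N₀ : ℕ → ℕ → ℕ → ℕ → Cfsg.spGL 2 (ZMod p) := fun i j k l => a ^ i * b ^ j * c ^ k * x ^ l
  have hN : ∀ i j k l, (blkA (N₀ i j k l)) 0 1 = (l : ZMod p) ∧
      blkB (N₀ i j k l) = ((i : ZMod p) • B₀ + (j : ZMod p) • B₁ + (k : ZMod p) • B₂) *
        ((shear (l : ZMod p))⁻¹).1ᵀ := by
    intro i j k l
    have h1 : N₀ i j k l = spSiegel ((i : ZMod p) • B₀ + (j : ZMod p) • B₁ + (k : ZMod p) • B₂)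
        (((s₀.smul _).add (s₁.smul _)).add (s₂.smul _)) * spLevi (shear (l : ZMod p)) := by
      show spSiegel _ _ ^ i * spSiegel _ _ ^ j * spSiegel _ _ ^ k * spLevi _ ^ l = _
      rw [sieg_pow, sieg_pow, sieg_pow, spSiegel_mul, spSiegel_mul, ← map_pow, shear_pow]
    rw [h1]
    obtain ⟨ea, eb, -, -⟩ := blk_mul
      (spSiegel ((i : ZMod p) • B₀ + (j : ZMod p) • B₁ + (k : ZMod p) • B₂)
        (((s₀.smul _).add (s₁.smul _)).add (s₂.smul _))) (spLevi (shear (l : ZMod p)))
    exact ⟨by rw [ea]; simp [shear], by rw [eb]; simp⟩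
  have hinj : ∀ i j k l i' j' k' l', N₀ i j k l = N₀ i' j' k' l' →
      (i : ZMod p) = i' ∧ (j : ZMod p) = j' ∧ (k : ZMod p) = k' ∧ (l : ZMod p) = l' := by
    intro i j k l i' j' k' l' h
    have hl := (hN i j k l).1
    rw [h, (hN i' j' k' l').1] at hl
    have hB := (hN i j k l).2
    rw [h, (hN i' j' k' l').2, ← hl] at hB
    have hB' := congrArg (fun N : M₂ => N * ((shear (l' : ZMod p))).1ᵀ) hB
    simp only [Matrix.mul_assoc, ← Matrix.transpose_mul, Units.mul_inv, Matrix.transpose_one,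
      Matrix.mul_one] at hB'
    have e11 := congrFun (congrFun hB' 1) 1
    have e01 := congrFun (congrFun hB' 0) 1
    have e00 := congrFun (congrFun hB' 0) 0
    simp [B₀, B₁, B₂] at e11 e01 e00
    refine ⟨e11.symm, e01.symm, ?_, hl.symm⟩
    rw [e01, add_right_inj] at e00
    exact (mul_right_cancel₀ htwo e00).symm
  let T : ZMod p × ZMod p × ZMod p × ZMod p → U := fun v =>
    ⟨N₀ v.1.val v.2.1.val v.2.2.1.val v.2.2.2.val,
      mul_mem (mul_mem (mul_mem (pow_mem ha _) (pow_mem hb _)) (pow_mem hc _)) (pow_mem hx _)⟩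
  have hTinj : Function.Injective T := by
    intro v w h
    obtain ⟨h1, h2, h3, h4⟩ := hinj _ _ _ _ _ _ _ _ (congrArg Subtype.val h)
    simp only [ZMod.natCast_val, ZMod.cast_id', id_eq] at h1 h2 h3 h4
    exact Prod.ext h1 (Prod.ext h2 (Prod.ext h3 h4))
  -- a Sylow subgroup containing it
  haveI : Finite (Cfsg.spGL 2 (ZMod p)) := Finite.of_equiv _ e.toEquiv
  have hcard4 : p ^ 4 ≤ Nat.card U := by
    refine le_trans (le_of_eq ?_) (Nat.card_le_card_of_injective T hTinj)
    simp only [Nat.card_prod, Nat.card_zmod]; ring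
  have hab : Commute a b := sieg_comm s₀ s₁
  have hac : Commute a c := sieg_comm s₀ s₂
  have hbc : Commute b c := sieg_comm s₁ s₂
  -- the group on the generators
  let A' : RegularModel.Data p U :=
    { a := ⟨a, ha⟩, b := ⟨b, hb⟩, c := ⟨c, hc⟩, x := ⟨x, hx⟩
      a_pow := Subtype.ext (hsp B₀ s₀), b_pow := Subtype.ext (hsp B₁ s₁), c_pow := Subtype.ext (hsp B₂ s₂)
      x_pow := Subtype.ext hxp
      ab := Subtype.ext hab, ac := Subtype.ext hac, bc := Subtype.ext hbc
      xa := Subtype.ext hxa, xb := Subtype.ext hxb, xc := Subtype.ext hxc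
      gen := by
        refine top_le_iff.1 fun u _ => ?_
        have h2 : U ≤ (Subgroup.closure ({⟨a, ha⟩, ⟨b, hb⟩, ⟨c, hc⟩, ⟨x, hx⟩} : Set U)).map U.subtype := by
          rw [MonoidHom.map_closure, Set.image_insert_eq, Set.image_insert_eq, Set.image_pair]
          exact le_of_eq rfl
        obtain ⟨w, hw, he⟩ := h2 u.2
        exact Subtype.ext he ▸ hw }
  have hUle : Nat.card U ≤ p ^ 4 := A'.card_le
  let N : RegularModel p U := { A' with card := le_antisymm hUle hcard4 }
  let U' := U.map e.symm.toMonoidHom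
  let eU : U' ≃* U := (e.symm.subgroupMap U).symm
  have hU'card : Nat.card U' = p ^ 4 := (Nat.card_congr eU.toEquiv).trans N.card
  obtain ⟨P, hP⟩ := (IsPGroup.of_card hU'card).exists_le_sylow
  have hPcard : Nat.card P = p ^ 4 := by
    rw [P.card_eq_multiplicity]
    congr 1
    rw [GLOrder.card_Sp, Nat.card_zmod, show (2 : ℕ) ^ 2 = 4 from rfl, Finset.prod_range_succ,
      Finset.prod_range_one]
    have hn : ∀ k : ℕ, 0 < k → ¬ p ∣ p ^ k - 1 := fun k hk h => hp.out.ne_one (Nat.dvd_one.1 (by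
      have h1 := Nat.dvd_sub (dvd_pow_self p hk.ne') h
      rwa [Nat.sub_sub_self (Nat.one_le_pow _ _ hp.out.pos)] at h1))
    have h0 : ∀ k : ℕ, 0 < k → p ^ k - 1 ≠ 0 := fun k hk h => hn k hk (h ▸ dvd_zero p)
    rw [Nat.factorization_mul (pow_ne_zero _ hp.out.ne_zero) (mul_ne_zero (h0 _ (by norm_num)) (h0 _ (by norm_num))),
      Nat.factorization_mul (h0 _ (by norm_num)) (h0 _ (by norm_num)), Nat.Prime.factorization_pow hp.out]
    simp [Nat.factorization_eq_zero_of_not_dvd (hn 2 (by norm_num)),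
      Nat.factorization_eq_zero_of_not_dvd (hn 4 (by norm_num))]
  have hPU : U' = (P : Subgroup _) := Subgroup.eq_of_le_of_card_ge hP (hPcard.le.trans hU'card.ge)
  obtain ⟨f⟩ := M.nonempty_mulEquiv N
  exact ⟨P, ⟨(f.trans eU.symm).trans (MulEquiv.subgroupCongr hPU)⟩⟩

end Cfsg.Agent.SectionalThree
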