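import Cfsg.Agent.Lib.SectionalThree.Step
import Cfsg.Agent.Lib.RankTwo.Auto

/-!
# Two generators, a shear, sectional rank three

`shape_of_shear` : a `p`-group of sectional rank at most three, generated by two elements, with an automorphism
of `p`-power order shearing the Frattini quotient and without characteristic subgroup strictly between `Φ` and
the group, has order at most `p ^ 3` or is of order `p ^ 5` with a known shape (`Shape`).
-/

set_option autoImplicit false
set_option linter.unusedSectionVars false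
set_option linter.style.haveILetI false
set_option maxHeartbeats 1000000

namespace Cfsg.Agent.SectionalThree

open scoped commutatorElement
open RankThreeEss (psi)

variable {p : ℕ} [hp : Fact p.Prime] {H : Type*} [Group H]

/-- The shape of the large two-generator case. -/
structure Shape (p : ℕ) {H : Type*} [Group H] (α : MulAut H) (a : H) : Prop where
  card_eq : Nat.card H = p ^ 5
  card_frattini : Nat.card (frattini H) = p ^ 3
  exp_frattini : ∀ f ∈ frattini H, f ^ p = 1
  frattini_eq : frattini H ≤ Subgroup.closure {(a⁻¹ * α a)⁻¹ * a * (a⁻¹ * α a) * a⁻¹} ⊔ psi p H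
  psi_central : psi p H ≤ Subgroup.center H
  psi_eq : psi p H ≤ Subgroup.closure
    {⁅(a⁻¹ * α a)⁻¹ * a * (a⁻¹ * α a) * a⁻¹, a⁆, ⁅(a⁻¹ * α a)⁻¹ * a * (a⁻¹ * α a) * a⁻¹, a⁻¹ * α a⁆}
  moved : α ⁅(a⁻¹ * α a)⁻¹ * a * (a⁻¹ * α a) * a⁻¹, a⁆ ≠ ⁅(a⁻¹ * α a)⁻¹ * a * (a⁻¹ * α a) * a⁻¹, a⁆

theorem mem_iff_of_characteristic {U : Subgroup H} (hU : U.Characteristic) (β : MulAut H) {v : H}
    (hv : v ∈ U) : β v ∈ U :=
  Subgroup.mem_comap.1 ((Subgroup.characteristic_iff_comap_eq.1 hU β).ge hv)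

theorem characteristic_of_mem {U : Subgroup H} (h : ∀ (β : MulAut H) (v : H), v ∈ U → β v ∈ U) :
    U.Characteristic :=
  Subgroup.characteristic_iff_le_comap.2 fun β v hv => Subgroup.mem_comap.2 (h β v hv)

variable [Finite H]

theorem shape_of_shear (five : 5 ≤ p) (hH : IsPGroup p H) (hsr : Cfsg.SectionalPRankLE p 3 H)
    (hidx : (frattini H).index = p ^ 2)
    (hchar : ∀ U : Subgroup H, U.Characteristic → frattini H ≤ U → U ≠ frattini H → U = ⊤)
    (α : MulAut H) (hαk : ∃ k : ℕ, α ^ p ^ k = 1) (hαp : ∃ g : H, α ^ p = MulAut.conj g) (a : H)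
    (hb : a⁻¹ * α a ∉ frattini H) (hbb : (a⁻¹ * α a)⁻¹ * α (a⁻¹ * α a) ∈ frattini H) :
    Nat.card H ≤ p ^ 3 ∨ Shape p α a := by
  classical
  have hp' := hp.out
  have hp1 := hp'.one_lt
  have hp2 : p ≠ 2 := by omega
  have h2 : p ∣ p.choose 2 := hp'.dvd_choose_self (by norm_num) (by omega)
  have h3 : p ∣ p.choose 3 := hp'.dvd_choose_self (by norm_num) (by omega)
  have h4 : p ∣ p.choose 4 := hp'.dvd_choose_self (by norm_num) (by omega)
  obtain ⟨k, hk⟩ := hαk
  set b := a⁻¹ * α a with hbdef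
  set c := b⁻¹ * a * b * a⁻¹ with hcdef
  clear_value c b
  have hαa : α a = a * b := by rw [hbdef, mul_inv_cancel_left]
  set Φ := frattini H with hΦ
  have hΦc : Φ.Characteristic := inferInstance
  -- `a` and `b` generate
  have hgen : Subgroup.closure {a, b} ⊔ Φ = ⊤ := by
    have hBn : (Subgroup.zpowers b ⊔ Φ).Normal := Subgroup.Normal.of_commutator_le (G := H)
      (H := Subgroup.zpowers b ⊔ Φ) ((PGroup.commutator_le_frattini hH).trans le_sup_right)
    have hlt1 : Φ < Subgroup.zpowers b ⊔ Φ := SetLike.lt_iff_le_and_exists.2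
      ⟨le_sup_right, b, Subgroup.mem_sup_left (Subgroup.mem_zpowers b), hb⟩
    have ha : a ∉ Subgroup.zpowers b ⊔ Φ := fun h => by
      obtain ⟨y, hy, f, hf, he⟩ := Subgroup.mem_sup_of_normal_right.1 h
      obtain ⟨i, rfl⟩ := Subgroup.mem_zpowers_iff.1 hy
      refine hb ((QuotientGroup.eq_one_iff b).1 ?_)
      have hbq : ((α b : H) : H ⧸ Φ) = b := (QuotientGroup.eq.2 hbb).symm
      have hfq : ((α f : H) : H ⧸ Φ) = 1 := (QuotientGroup.eq_one_iff _).2 (mem_iff_of_characteristic hΦc α hf)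
      rw [hbdef, QuotientGroup.mk_mul, QuotientGroup.mk_inv]
      nth_rewrite 2 [← he]
      rw [map_mul, map_zpow, QuotientGroup.mk_mul, QuotientGroup.mk_zpow, hbq, hfq, mul_one, ← he,
        QuotientGroup.mk_mul, QuotientGroup.mk_zpow, (QuotientGroup.eq_one_iff f).2 hf, mul_one, inv_mul_cancel]
    have hlt2 : Subgroup.zpowers b ⊔ Φ < Subgroup.closure {a, b} ⊔ Φ := SetLike.lt_iff_le_and_exists.2
      ⟨sup_le_sup_right (Subgroup.zpowers_le.2 (Subgroup.subset_closure (by simp))) _, a,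
        Subgroup.mem_sup_left (Subgroup.subset_closure (by simp)), ha⟩
    refine PGroup.eq_of_le_of_card_le le_top ?_
    rw [Subgroup.card_top, ← Φ.card_mul_index, hidx, mul_comm, pow_two, mul_assoc]
    exact le_trans (Nat.mul_le_mul le_rfl (PGroup.mul_card_le_of_lt hH hlt1)) (PGroup.mul_card_le_of_lt hH hlt2)
  have hgens : ∀ {Q : Type _} [Group Q] (f : H →* Q), f a = 1 → f b = 1 → ∀ u, f u = 1 := fun f ha hb' =>
    eq_one_of_generators f hgen (by rintro u (rfl | rfl) <;> assumption)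
  -- the displacements of the displacements lie in `Φ`
  letI : CommGroup (H ⧸ Φ) :=
    { (inferInstance : Group (H ⧸ Φ)) with
      mul_comm := fun u v => QuotientGroup.induction_on u fun u => QuotientGroup.induction_on v fun v => by
        rw [← commutatorElement_eq_one_iff_mul_comm]
        exact (QuotientGroup.eq_one_iff _).2 (PGroup.commutatorElement_mem_frattini hH u v) }
  have hbb2 : ∀ g : H, (g⁻¹ * α g)⁻¹ * α (g⁻¹ * α g) ∈ Φ := by
    let q := QuotientGroup.mk' Φ
    let d : H →* H ⧸ Φ := (q.comp α.toMonoidHom) / q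
    let ᾱ : MulAut (H ⧸ Φ) := RankTwo.quotientAut Φ α
    let dd : H ⧸ Φ →* H ⧸ Φ := ᾱ.toMonoidHom / MonoidHom.id _
    have key : ∀ g, dd (d g) = q ((g⁻¹ * α g)⁻¹ * α (g⁻¹ * α g)) := fun g => by
      show ᾱ (q (α g) / q g) / (q (α g) / q g) = _
      rw [map_div]
      show (q (α (α g)) / q (α g)) / (q (α g) / q g) = _
      simp only [map_mul, map_inv, div_eq_mul_inv, mul_inv_rev, inv_inv]
      ac_rfl
    intro g
    refine (QuotientGroup.eq_one_iff _).1 ((key g).symm.trans ?_)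
    refine hgens (dd.comp d) ?_ ?_ g
    · rw [MonoidHom.comp_apply, key, ← hbdef]
      exact (QuotientGroup.eq_one_iff _).2 hbb
    · rw [MonoidHom.comp_apply, key]
      have := mul_mem (inv_mem hbb) (mem_iff_of_characteristic hΦc α hbb)
      exact (QuotientGroup.eq_one_iff _).2 this
  -- the `p`-th powers
  set ψ := psi p H with hψ
  haveI hψc : ψ.Characteristic := RankThreeEss.psi_characteristic
  have hψΦ : ψ ≤ Φ := RankThreeEss.psi_le_frattini
  let π := QuotientGroup.mk' ψ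
  have hπ1 : ∀ v : H, π v = 1 ↔ v ∈ ψ := fun v => QuotientGroup.eq_one_iff v
  have hπcen : ∀ f ∈ Φ, ∀ g : H ⧸ ψ, Commute g (π f) := fun f hf g => by
    obtain ⟨g, rfl⟩ := QuotientGroup.mk'_surjective ψ g
    refine commutatorElement_eq_one_iff_commute.1 ?_
    show ⁅π g, π f⁆ = 1
    rw [← map_commutatorElement, hπ1]
    exact RankThreeEss.commutator_mem_psi' hf g
  have hπp : ∀ f ∈ Φ, π f ^ p = 1 := fun f hf => by
    rw [← map_pow, hπ1]; exact RankThreeEss.pow_mem_psi hf
  have hpow : ∀ u v : H, π (u * v) ^ p = π u ^ p * π v ^ p := fun u v => by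
    have hf := PGroup.commutatorElement_mem_frattini hH v u
    rw [map_mul]
    refine PGroup.mul_pow_prime_eq hp' hp2 ?_ ?_ ?_ <;> rw [← map_commutatorElement]
    exacts [hπcen _ hf _, hπcen _ hf _, hπp _ hf]
  let P : H →* H ⧸ ψ := MonoidHom.mk' (fun v => π v ^ p) hpow
  have hPk : ∀ v, v ∈ P.ker ↔ v ^ p ∈ ψ := fun v => by
    rw [MonoidHom.mem_ker, ← hπ1, map_pow]; rfl
  -- modulo `ψ H'`
  set K := ψ ⊔ _root_.commutator H with hK
  have hKcc : K.Characteristic := characteristic_of_mem fun β v hv => by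
    have hKle : K ≤ K.comap β.toMonoidHom := sup_le
      (fun w hw => Subgroup.mem_comap.2 (Subgroup.mem_sup_left (mem_iff_of_characteristic hψc β hw)))
      (fun w hw => Subgroup.mem_comap.2 (Subgroup.mem_sup_right
        (mem_iff_of_characteristic inferInstance β hw)))
    exact Subgroup.mem_comap.1 (hKle hv)
  haveI := hKcc
  let σ := QuotientGroup.mk' K
  have hσ1 : ∀ v : H, σ v = 1 ↔ v ∈ K := fun v => QuotientGroup.eq_one_iff v
  have hσc : ∀ u v : H, Commute (σ u) (σ v) := fun u v => by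
    refine commutatorElement_eq_one_iff_commute.1 ?_
    rw [← map_commutatorElement, hσ1]
    exact Subgroup.mem_sup_right (Subgroup.commutator_mem_commutator (Subgroup.mem_top u) (Subgroup.mem_top v))
  have hσΦ : ∀ f ∈ Φ, ∃ g, σ f = σ g ^ p := by
    let Pσ : H →* H ⧸ K := MonoidHom.mk' (fun v => σ v ^ p) fun u v => by
      rw [map_mul, (hσc u v).mul_pow]
    intro f hf
    have hle : Φ ≤ Pσ.range.comap σ := by
      rw [hΦ, PGroup.frattini_eq hH]
      refine sup_le (fun w hw => ?_) ((Subgroup.closure_le _).2 ?_)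
      · rw [Subgroup.mem_comap, (hσ1 w).2 (Subgroup.mem_sup_right hw)]; exact one_mem _
      · rintro _ ⟨w, rfl⟩
        exact ⟨w, (map_pow σ w p).symm⟩
    obtain ⟨g, hg⟩ := hle hf
    exact ⟨g, hg.symm⟩
  have hbU : b ^ p ∈ K := by
    let ᾱ : MulAut (H ⧸ K) := RankTwo.quotientAut K α
    have hᾱ : ∀ v, ᾱ (σ v) = σ (α v) := fun v => rfl
    have hcen : ∀ y : H ⧸ K, y ∈ Subgroup.center (H ⧸ K) := fun y => Subgroup.mem_center_iff.2 fun g => by
      obtain ⟨g, rfl⟩ := QuotientGroup.mk'_surjective K g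
      obtain ⟨y, rfl⟩ := QuotientGroup.mk'_surjective K y
      exact hσc g y
    obtain ⟨g, hg⟩ := hσΦ _ hbb
    set h := g⁻¹ * α g with hh
    have e2 : σ h ^ p = (σ g ^ p)⁻¹ * ᾱ (σ g ^ p) := by
      rw [map_pow, hᾱ, hh, map_mul, map_inv, ((hσc g (α g)).inv_left).mul_pow, inv_pow]
    have e3 : ᾱ (σ h ^ p) = σ h ^ p := by
      have h5 : σ (h⁻¹ * α h) ^ p = 1 := by
        rw [← map_pow, hσ1]
        exact Subgroup.mem_sup_left (RankThreeEss.pow_mem_psi (hbb2 g))
      rw [map_pow, hᾱ, show α h = h * (h⁻¹ * α h) by group, map_mul, (hσc _ _).mul_pow, h5, mul_one]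
    have hit := RankThreeEss.conj_iter ᾱ (L := σ a) (c := σ b) (φ₁ := σ g ^ p) (φ₂ := σ h ^ p) (φ₃ := 1)
      (by rw [hᾱ, hαa, map_mul]) (by rw [hᾱ, ← hg, ← map_mul, mul_inv_cancel_left])
      (by rw [e2, mul_inv_cancel_left]) (by rw [e3, mul_one]) (map_one _) (hcen _) (hcen _) (hcen _) p
    obtain ⟨w, hw⟩ := hαp
    have hfix : (ᾱ ^ p) (σ a) = σ a := by
      rw [show ᾱ ^ p = RankTwo.quotientAut K (α ^ p) from (map_pow _ α p).symm]
      show σ ((α ^ p) a) = σ a
      rw [hw, MulAut.conj_apply, map_mul, map_mul, map_inv, (hσc w a).eq, mul_inv_cancel_right]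
    have hg1 : (σ g ^ p) ^ p = 1 := by
      rw [← hg, ← map_pow, hσ1]
      exact Subgroup.mem_sup_left (RankThreeEss.pow_mem_psi hbb)
    have hh1 : (σ h ^ p) ^ p = 1 := by
      rw [← map_pow, ← map_pow, hσ1]
      exact Subgroup.mem_sup_left (RankThreeEss.pow_mem_psi (PGroup.pow_mem_frattini hH h))
    rw [hfix, pow_eq_one_of_dvd hg1 h2, pow_eq_one_of_dvd hh1 h3, one_pow, mul_one, mul_one, mul_one,
      left_eq_mul, ← map_pow, hσ1] at hit
    exact hit
  -- `H / ψ` has exponent `p`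
  have hcψ : c ∈ Φ := by
    have e : c = ⁅b⁻¹, a⁆ := by rw [hcdef, commutatorElement_def, inv_inv]
    rw [e]; exact PGroup.commutatorElement_mem_frattini hH _ _
  haveI hcn : (Subgroup.zpowers (π c)).Normal := ⟨fun y hy g => by
    obtain ⟨i, rfl⟩ := Subgroup.mem_zpowers_iff.1 hy
    rw [((hπcen c hcψ g).zpow_right i).eq, mul_inv_cancel_right]
    exact hy⟩
  set C := (Subgroup.zpowers (π c)).comap π with hC
  have hcC : c ∈ C := Subgroup.mem_zpowers _
  have hψC : ψ ≤ C := fun v hv => by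
    show π v ∈ Subgroup.zpowers (π c)
    rw [(hπ1 v).2 hv]; exact one_mem _
  have hcomC : _root_.commutator H ≤ C := by
    let τ := (QuotientGroup.mk' (Subgroup.zpowers (π c))).comp π
    have hτc : τ c = 1 := (QuotientGroup.eq_one_iff _).2 (Subgroup.mem_zpowers _)
    have hab : Commute (τ a) (τ b) := by
      have hτc' : τ (b⁻¹ * a * b * a⁻¹) = 1 := (congrArg τ hcdef).symm.trans hτc
      simp only [map_mul, map_inv] at hτc'
      rw [mul_inv_eq_one, mul_assoc, inv_mul_eq_iff_eq_mul] at hτc'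
      exact hτc'
    have hgen' : Subgroup.closure ({a, b} ∪ (Φ : Set H)) = ⊤ := by
      rw [Subgroup.closure_union, Subgroup.closure_eq, hgen]
    have hcomm : ∀ u v, Commute (τ u) (τ v) := commute_of_closure τ hgen' (by
      rintro u hu v hv
      rcases hu with hu | hu
      · rcases hv with hv | hv
        · rcases hu with rfl | rfl <;> rcases hv with rfl | rfl
          exacts [Commute.refl _, hab, hab.symm, Commute.refl _]
        · exact (hπcen v hv (π u)).map (QuotientGroup.mk' (Subgroup.zpowers (π c)))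
      · exact ((hπcen u hu (π v)).map (QuotientGroup.mk' (Subgroup.zpowers (π c)))).symm)
    rw [_root_.commutator_def, Subgroup.commutator_le]
    intro u _ v _
    have : τ ⁅u, v⁆ = 1 := by
      rw [map_commutatorElement, commutatorElement_eq_one_iff_commute]; exact hcomm u v
    exact (QuotientGroup.eq_one_iff (π ⁅u, v⁆)).1 this
  have hU₁ : ((C.map π).comap P : Subgroup H) = ⊤ := by
    -- `{e : e ^ p ∈ ψ H'}` is everything
    let U : Subgroup H := (K.map π).comap P
    have hKπ : ∀ v, π v ∈ K.map π ↔ v ∈ K := fun v => by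
      refine ⟨fun ⟨w, hw, he⟩ => ?_, fun h => ⟨v, h, rfl⟩⟩
      have h1 : w⁻¹ * v ∈ ψ := QuotientGroup.eq.1 he
      simpa using mul_mem hw (Subgroup.mem_sup_left (T := _root_.commutator H) h1)
    have hUmem : ∀ v, v ∈ U ↔ v ^ p ∈ K := fun v => by
      rw [← hKπ, map_pow]; rfl
    have hUtop : U = ⊤ := by
      refine hchar U (characteristic_of_mem fun β v hv => ?_) (fun f hf => ?_) fun e => hb ?_
      · rw [hUmem] at hv ⊢
        rw [← map_pow]
        exact mem_iff_of_characteristic hKcc β hv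
      · rw [hUmem]; exact Subgroup.mem_sup_left (RankThreeEss.pow_mem_psi hf)
      · rw [← e, hUmem]; exact hbU
    refine top_le_iff.1 (hUtop.ge.trans (Subgroup.comap_mono (Subgroup.map_mono (sup_le hψC hcomC))))
  have hexpψ : ∀ v : H, v ^ p ∈ ψ := by
    have htop : P.ker = ⊤ := by
      refine hchar _ (characteristic_of_mem fun β v hv => ?_) (fun f hf => ?_) fun e => ?_
      · rw [hPk] at hv ⊢
        rw [← map_pow]
        exact mem_iff_of_characteristic hψc β hv
      · rw [hPk]; exact RankThreeEss.pow_mem_psi hf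
      · have hr : P.range ≤ Subgroup.zpowers (π c) := by
          rintro _ ⟨v, rfl⟩
          have hv : v ∈ (C.map π).comap P := hU₁ ▸ Subgroup.mem_top v
          exact (Subgroup.map_comap_le π (Subgroup.zpowers (π c))) hv
        have hle : P.ker.index ≤ p := by
          rw [Subgroup.index_ker]
          refine (Subgroup.card_le_of_le hr).trans ?_
          rw [Nat.card_zpowers]
          exact orderOf_le_of_pow_eq_one hp'.pos (hπp c hcψ)
        rw [e, hidx] at hle
        exact absurd hle (not_le.2 (by simpa using Nat.pow_lt_pow_right hp1 (show 1 < 2 by norm_num)))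
    intro v
    exact (hPk v).1 (htop ▸ Subgroup.mem_top v)
  have hΦC : Φ = C := le_antisymm
    (by
      haveI : C.Normal := hcn.comap π
      exact PGroup.frattini_le_of_quotient_elementary hcomC fun v => hψC (hexpψ v))
    (fun v hv => by
      obtain ⟨i, hi⟩ := Subgroup.mem_zpowers_iff.1 (show π v ∈ Subgroup.zpowers (π c) from hv)
      have h1 : (c ^ i)⁻¹ * v ∈ ψ := QuotientGroup.eq.1 (show π (c ^ i) = π v by rw [map_zpow, hi])
      simpa using mul_mem (zpow_mem hcψ i) (hψΦ h1))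
  have hΦdec : ∀ f ∈ Φ, ∃ i : ℕ, (c ^ i)⁻¹ * f ∈ ψ := fun f hf => by
    have h : π f ∈ Subgroup.zpowers (π c) := hΦC.le hf
    obtain ⟨i, hi⟩ := mem_powers_iff_mem_zpowers.2 h
    exact ⟨i, QuotientGroup.eq.1 (show π (c ^ i) = π f by rw [map_pow]; exact hi)⟩
  have hcardΦ : Nat.card Φ ≤ p * Nat.card ψ := by
    have h := FusionAbelianIndex.card_comap π (Subgroup.zpowers (π c))
    rw [QuotientGroup.ker_mk', inf_eq_left.2 (fun y _ => (QuotientGroup.mk'_surjective ψ y))] at h
    rw [hΦC, hC, h, mul_comm p]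
    refine Nat.mul_le_mul le_rfl ?_
    rw [Nat.card_zpowers]
    exact orderOf_le_of_pow_eq_one hp'.pos (hπp c hcψ)
  have hcardH : Nat.card H = Nat.card Φ * p ^ 2 := by rw [← hidx, Φ.card_mul_index]
  by_cases hψ0 : ψ = ⊥
  · left
    rw [hψ0, Subgroup.card_bot, mul_one] at hcardΦ
    rw [hcardH, pow_succ' p 2]
    exact Nat.mul_le_mul hcardΦ le_rfl
  right
  haveI : ψ.Normal := inferInstance
  have hcnψ : c ∉ ψ := fun h => RankThreeEss.psi_ne_frattini hH (fun e => hψ0 (le_bot_iff.1 (e ▸ hψΦ)))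
    (le_antisymm hψΦ fun f hf => by
      obtain ⟨i, hi⟩ := hΦdec f hf
      simpa using mul_mem (pow_mem h i) hi)
  -- `χ`
  set χ := step p ψ with hχ
  haveI hχc : χ.Characteristic := step_characteristic ψ
  let π₂ := QuotientGroup.mk' χ
  have h21 : ∀ v : H, π₂ v = 1 ↔ v ∈ χ := fun v => QuotientGroup.eq_one_iff v
  have h2cen : ∀ v ∈ ψ, ∀ g : H ⧸ χ, Commute g (π₂ v) := fun v hv g => by
    obtain ⟨g, rfl⟩ := QuotientGroup.mk'_surjective χ g
    refine (commutatorElement_eq_one_iff_commute.1 ?_).symm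
    show ⁅π₂ v, π₂ g⁆ = 1
    rw [← map_commutatorElement, h21]
    exact commutator_mem_step hv g
  have h2p : ∀ v ∈ ψ, π₂ v ^ p = 1 := fun v hv => by rw [← map_pow, h21]; exact pow_mem_step hv
  have h2cp : π₂ c ^ p = 1 := by
    let β : MulAut (H ⧸ χ) := MulAut.conj (π₂ a)
    have hφ : ⁅c⁻¹, a⁆ ∈ ψ := RankThreeEss.commutator_mem_psi (inv_mem hcψ) a
    have hit := RankThreeEss.conj_iter β (L := π₂ b) (c := π₂ c) (φ₁ := π₂ ⁅c⁻¹, a⁆) (φ₂ := 1) (φ₃ := 1)
      (by simp only [β, MulAut.conj_apply, ← map_inv, ← map_mul]; congr 1; rw [hcdef]; group)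
      (by simp only [β, MulAut.conj_apply, ← map_inv, ← map_mul]; congr 1; rw [commutatorElement_def]; group)
      (by rw [mul_one, MulAut.conj_apply, (h2cen _ hφ (π₂ a)).eq, mul_inv_cancel_right])
      (by rw [map_one, mul_one]) (map_one _)
      (Subgroup.mem_center_iff.2 fun g => h2cen _ hφ g) (one_mem _) (one_mem _) p
    have hfix : (β ^ p) (π₂ b) = π₂ b := by
      rw [← map_pow MulAut.conj, MulAut.conj_apply, ← map_pow,
        ← (h2cen _ (hexpψ a) (π₂ b)).eq, mul_inv_cancel_right]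
    rw [hfix, pow_eq_one_of_dvd (h2p _ hφ) h2, one_pow, one_pow, mul_one, mul_one, mul_one,
      left_eq_mul] at hit
    exact hit
  let κ : H →* H ⧸ χ := MonoidHom.mk' (fun e => ⁅π₂ c, π₂ e⁆) fun u v => by
    rw [map_mul]
    refine PGroup.commutator_mul_right ?_
    rw [← map_commutatorElement]
    exact h2cen _ (RankThreeEss.commutator_mem_psi hcψ v) _
  have hκe : ∀ e, κ e = π₂ ⁅c, e⁆ := fun e => (map_commutatorElement π₂ c e).symm
  have h2Φ : ∀ f ∈ Φ, ∀ f' ∈ Φ, Commute (π₂ f) (π₂ f') := by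
    intro f hf f' hf'
    obtain ⟨i, hi⟩ := hΦdec f hf
    obtain ⟨i', hi'⟩ := hΦdec f' hf'
    rw [show f = c ^ i * ((c ^ i)⁻¹ * f) by group, show f' = c ^ i' * ((c ^ i')⁻¹ * f') by group,
      map_mul π₂ (c ^ i), map_mul π₂ (c ^ i'), map_pow π₂ c i, map_pow π₂ c i']
    exact (((Commute.refl _).pow_pow i i').mul_right (h2cen _ hi' _)).mul_left
      ((h2cen _ hi _).symm)
  have hκΦ : ∀ f ∈ Φ, κ f = 1 := fun f hf =>
    commutatorElement_eq_one_iff_commute.2 (h2Φ c hcψ f hf)
  have hψκ : ∀ v ∈ ψ, ∃ e, (⁅c, e⁆)⁻¹ * v ∈ χ := by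
    have hle : ψ ≤ κ.range.comap π₂ := by
      rw [hψ, RankThreeEss.psi]
      refine sup_le ?_ ((Subgroup.closure_le _).2 ?_)
      · rw [Subgroup.commutator_le]
        intro f hf e _
        obtain ⟨i, hi⟩ := hΦdec f hf
        show π₂ ⁅f, e⁆ ∈ κ.range
        rw [map_commutatorElement, show f = c ^ i * ((c ^ i)⁻¹ * f) by group, map_mul, map_pow]
        have hcc : ∀ y, Commute y ⁅π₂ c, π₂ e⁆ := fun y => by
          rw [← map_commutatorElement]
          exact h2cen _ (RankThreeEss.commutator_mem_psi hcψ e) y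
        have h1 : ⁅π₂ ((c ^ i)⁻¹ * f), π₂ e⁆ = 1 :=
          commutatorElement_eq_one_iff_commute.2 (h2cen _ hi _).symm
        rw [PGroup.commutator_mul_left (by rw [h1]; exact Commute.one_right _), h1, one_mul,
          PGroup.commutator_pow_left (hcc _)]
        exact pow_mem (show ⁅π₂ c, π₂ e⁆ ∈ κ.range from ⟨e, rfl⟩) i
      · rintro _ ⟨f, hf, rfl⟩
        obtain ⟨i, hi⟩ := hΦdec f hf
        show π₂ (f ^ p) ∈ κ.range
        rw [map_pow, show f = c ^ i * ((c ^ i)⁻¹ * f) by group, map_mul, map_pow,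
          (h2cen _ hi _).mul_pow, h2p _ hi, ← pow_mul, mul_comm i p, pow_mul, h2cp, one_pow, mul_one]
        exact one_mem _
    intro v hv
    obtain ⟨e, he⟩ := hle hv
    exact ⟨e, QuotientGroup.eq.1 ((hκe e).symm.trans he)⟩
  have hκker : κ.ker = Φ := by
    by_contra hne
    refine (step_lt hH hψ0).ne (le_antisymm (step_le ψ) fun v hv => ?_)
    have htop : κ.ker = ⊤ := by
      refine hchar _ (characteristic_of_mem fun β e he => ?_) (fun f hf => hκΦ f hf) hne
      -- `ker κ` consists of the `e` with `⁅Φ, e⁆ ≤ χ`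
      have hall : ∀ f ∈ Φ, ⁅f, e⁆ ∈ χ := fun f hf => by
        obtain ⟨i, hi⟩ := hΦdec f hf
        rw [← h21, map_commutatorElement, show f = c ^ i * ((c ^ i)⁻¹ * f) by group, map_mul, map_pow]
        have he' : Commute (π₂ c) (π₂ e) := commutatorElement_eq_one_iff_commute.1 he
        exact commutatorElement_eq_one_iff_commute.2 ((he'.pow_left i).mul_left (h2cen _ hi _).symm)
      have h := mem_iff_of_characteristic hχc β (hall (β⁻¹ c) (mem_iff_of_characteristic hΦc β⁻¹ hcψ))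
      rw [map_commutatorElement, MulAut.apply_inv_self] at h
      rw [MonoidHom.mem_ker, hκe, h21]
      exact h
    obtain ⟨e, he⟩ := hψκ v hv
    have h1 : ⁅c, e⁆ ∈ χ := by rw [← h21, ← hκe]; exact MonoidHom.mem_ker.1 (htop ▸ Subgroup.mem_top e)
    have := mul_mem h1 he
    rwa [mul_inv_cancel_left] at this
  have hcardψ : Nat.card ψ = p ^ 2 * Nat.card χ := by
    have hr : κ.range = ψ.map π₂ := le_antisymm
      (by rintro _ ⟨e, rfl⟩; exact ⟨_, RankThreeEss.commutator_mem_psi hcψ e, (hκe e).symm⟩)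
      (by
        rintro _ ⟨v, hv, rfl⟩
        obtain ⟨e, he⟩ := hψκ v hv
        exact ⟨e, (hκe e).trans (QuotientGroup.eq.2 he)⟩)
    have h1 : Nat.card (ψ.map π₂) = p ^ 2 := by rw [← hr, ← Subgroup.index_ker, hκker, hidx]
    have h := FusionAbelianIndex.card_comap π₂ (ψ.map π₂)
    rw [QuotientGroup.ker_mk', inf_eq_left.2 (Subgroup.map_le_range _ _), h1,
      Subgroup.comap_map_eq_self (by rw [QuotientGroup.ker_mk']; exact step_le ψ)] at h
    rw [h, mul_comm]
  have hcomm_iff : ∀ e, ⁅c, e⁆ ∈ χ ↔ e ∈ Φ := fun e => by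
    rw [← hκker, MonoidHom.mem_ker, hκe, h21]
  -- `χ` is trivial
  have hαc : c⁻¹ * α c ∈ ψ := EssentialSmall.mul_apply_mem_of_card_le hH hψΦ hcardΦ hk
    (fun v hv => mem_iff_of_characteristic hψc α hv) (fun v hv => mem_iff_of_characteristic hΦc α hv) hcψ
  have hχ0 : χ = ⊥ := by
    by_contra hne
    set χ' := step p χ with hχ'
    haveI hχ'c : χ'.Characteristic := step_characteristic χ
    let π₃ := QuotientGroup.mk' χ'
    have h31 : ∀ v : H, π₃ v = 1 ↔ v ∈ χ' := fun v => QuotientGroup.eq_one_iff v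
    have h3cen : ∀ v ∈ χ, ∀ g : H ⧸ χ', Commute g (π₃ v) := fun v hv g => by
      obtain ⟨g, rfl⟩ := QuotientGroup.mk'_surjective χ' g
      refine (commutatorElement_eq_one_iff_commute.1 ?_).symm
      show ⁅π₃ v, π₃ g⁆ = 1
      rw [← map_commutatorElement, h31]
      exact commutator_mem_step hv g
    have h3cen' : ∀ v ∈ ψ, ∀ g h : H, Commute (π₃ h) ⁅π₃ v, π₃ g⁆ := fun v hv g h => by
      rw [← map_commutatorElement]; exact h3cen _ (commutator_mem_step hv g) _
    -- commutation with an element of `ψ`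
    have hθ : ∀ v ∈ ψ, ∀ g g' : H, ⁅π₃ v, π₃ (g * g')⁆ = ⁅π₃ v, π₃ g⁆ * ⁅π₃ v, π₃ g'⁆ := fun v hv g g' => by
      rw [map_mul]; exact PGroup.commutator_mul_right (h3cen' v hv g' g)
    have hθl : ∀ v ∈ ψ, ∀ v' ∈ ψ, ∀ g : H,
        ⁅π₃ (v * v'), π₃ g⁆ = ⁅π₃ v, π₃ g⁆ * ⁅π₃ v', π₃ g⁆ := fun v hv v' hv' g => by
      rw [map_mul, PGroup.commutator_mul_left (h3cen' v' hv' g v)]
      have := h3cen _ (commutator_mem_step hv g) ⁅π₃ v', π₃ g⁆
      rw [map_commutatorElement] at this
      exact this.eq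
    have hψkill : ∀ v ∈ ψ, ∀ g g' : H, Commute (π₃ v) (π₃ ⁅g, g'⁆) := by
      intro v hv g g'
      let θ : H →* H ⧸ χ' := MonoidHom.mk' (fun g => ⁅π₃ v, π₃ g⁆) (hθ v hv)
      refine commutatorElement_eq_one_iff_commute.1 (show θ ⁅g, g'⁆ = 1 from ?_)
      rw [map_commutatorElement, commutatorElement_eq_one_iff_commute]
      show Commute ⁅π₃ v, π₃ g⁆ ⁅π₃ v, π₃ g'⁆
      rw [← map_commutatorElement]
      exact (h3cen _ (commutator_mem_step hv g) _).symm
    have hc3 : ∀ v ∈ ψ, Commute (π₃ v) (π₃ c) := fun v hv => by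
      rw [show c = ⁅b⁻¹, a⁆ by rw [hcdef, commutatorElement_def, inv_inv]]
      exact hψkill v hv _ _
    have hψab : ∀ v ∈ ψ, ∀ w ∈ ψ, Commute (π₃ v) (π₃ w) := fun v hv w hw => by
      obtain ⟨e, he⟩ := hψκ w hw
      rw [show w = ⁅c, e⁆ * (⁅c, e⁆⁻¹ * w) by group, map_mul]
      exact (hψkill v hv c e).mul_right (h3cen _ he _)
    have hΦab : ∀ f ∈ Φ, ∀ v, (v ∈ ψ ∨ v = c) → Commute (π₃ f) (π₃ v) := by
      intro f hf v hv
      obtain ⟨i, hi⟩ := hΦdec f hf
      rw [show f = c ^ i * ((c ^ i)⁻¹ * f) by group, map_mul, map_pow]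
      rcases hv with hv | rfl
      · exact ((hc3 v hv).symm.pow_left i).mul_left (hψab _ hi v hv)
      · exact ((Commute.refl _).pow_left i).mul_left (hc3 _ hi)
    -- exponent `p`
    have hcpχ : c ^ p ∈ χ := by rw [← h21, map_pow, h2cp]
    have hψe : ∀ v ∈ ψ, π₃ v ^ p = 1 := by
      intro v hv
      obtain ⟨e, he⟩ := hψκ v hv
      have hy : π₃ (⁅c, e⁆⁻¹ * v) ^ p = 1 := by rw [← map_pow, h31]; exact pow_mem_step he
      have hX : ⁅c, e⁆ ∈ ψ := RankThreeEss.commutator_mem_psi hcψ e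
      have hXp : π₃ ⁅c, e⁆ ^ p = 1 := by
        have hconj : π₃ e * π₃ c * (π₃ e)⁻¹ = π₃ ⁅c, e⁆⁻¹ * π₃ c := by
          simp only [commutatorElement_def, map_mul, map_inv, mul_inv_rev, inv_inv]; group
        have h1 := congrArg (· ^ p) hconj
        simp only [conj_pow, map_inv] at h1
        rw [(hc3 _ hX).inv_left.mul_pow, ← map_pow π₃ c, (h3cen _ hcpχ (π₃ e)).eq, mul_inv_cancel_right,
          right_eq_mul, inv_pow, inv_eq_one] at h1
        exact h1
      rw [show v = ⁅c, e⁆ * (⁅c, e⁆⁻¹ * v) by group, map_mul, (h3cen _ he _).mul_pow, hXp, hy, one_mul]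
    have hcard3 : Nat.card χ ≤ p * Nat.card χ' := by
      have hle := RankThreeEss.card_range_le hsr (U := ψ) (π₃.comp ψ.subtype)
        (fun u v => (hψab u u.2 v v.2).eq) (fun u => hψe u u.2)
      rw [MonoidHom.range_comp, Subgroup.range_subtype] at hle
      have h := FusionAbelianIndex.card_comap π₃ (ψ.map π₃)
      rw [QuotientGroup.ker_mk', inf_eq_left.2 (Subgroup.map_le_range _ _),
        Subgroup.comap_map_eq_self (by rw [QuotientGroup.ker_mk']; exact (step_le χ).trans (step_le ψ)),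
        hcardψ] at h
      have h' : p ^ 2 * Nat.card χ ≤ p ^ 2 * (p * Nat.card χ') := by
        rw [h]
        refine (Nat.mul_le_mul le_rfl hle).trans (le_of_eq ?_)
        ring
      exact Nat.le_of_mul_le_mul_left h' (pow_pos hp'.pos 2)
    have hαχ : ∀ v ∈ χ, π₃ (α v) = π₃ v := fun v hv =>
      (QuotientGroup.eq.2 (EssentialSmall.mul_apply_mem_of_card_le hH (step_le χ) hcard3 hk
        (fun w hw => mem_iff_of_characteristic hχ'c α hw) (fun w hw => mem_iff_of_characteristic hχc α hw) hv)).symm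
    -- the form
    let β : H → H → H ⧸ χ' := fun e g => ⁅π₃ ⁅c, e⁆, π₃ g⁆
    have hX : ∀ e, ⁅c, e⁆ ∈ ψ := fun e => RankThreeEss.commutator_mem_psi hcψ e
    have hβr : ∀ e g g', β e (g * g') = β e g * β e g' := fun e g g' => hθ _ (hX e) g g'
    have hθχ : ∀ v ∈ ψ, ∀ w ∈ χ, ∀ g, ⁅π₃ (v * w), π₃ g⁆ = ⁅π₃ v, π₃ g⁆ := fun v hv w hw g => by
      rw [hθl v hv w (step_le ψ hw) g, commutatorElement_eq_one_iff_commute.2 (h3cen w hw (π₃ g)).symm, mul_one]
    have hcong : ∀ v ∈ ψ, ∀ v' ∈ ψ, π₂ v = π₂ v' → ∀ g, ⁅π₃ v', π₃ g⁆ = ⁅π₃ v, π₃ g⁆ := fun v hv v' _ h g => by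
      have := hθχ v hv _ (QuotientGroup.eq.1 h) g
      rwa [mul_inv_cancel_left] at this
    have hβl : ∀ e e' g, β (e * e') g = β e g * β e' g := fun e e' g => by
      have h1 : π₂ (⁅c, e⁆ * ⁅c, e'⁆) = π₂ ⁅c, e * e'⁆ := by rw [map_mul, ← hκe, ← hκe, ← hκe, map_mul]
      show ⁅π₃ ⁅c, e * e'⁆, π₃ g⁆ = _
      rw [hcong _ (mul_mem (hX e) (hX e')) _ (hX _) h1 g, hθl _ (hX e) _ (hX e') g]
    have hβΦl : ∀ f ∈ Φ, ∀ g, β f g = 1 := fun f hf g =>
      commutatorElement_eq_one_iff_commute.2 (h3cen _ ((hcomm_iff f).2 hf) _).symm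
    have hβΦr : ∀ f ∈ Φ, ∀ e, β e f = 1 := fun f hf e =>
      commutatorElement_eq_one_iff_commute.2 (hΦab f hf _ (Or.inl (hX e))).symm
    have hsymm : ∀ e g, β e g = β g e := by
      intro e g
      set E := π₃ e
      set Gg := π₃ g
      set Cc := π₃ c
      have hone : ∀ y : H, π₃ y * Cc * (π₃ y)⁻¹ = (π₃ ⁅c, y⁆)⁻¹ * Cc := fun y => by
        simp only [Cc, commutatorElement_def, map_mul, map_inv, mul_inv_rev, inv_inv]; group
      have htwo : ∀ y z : H, π₃ (y * z) * Cc * (π₃ (y * z))⁻¹ =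
          (π₃ ⁅c, z⁆)⁻¹ * (π₃ ⁅c, y⁆)⁻¹ * β z y * Cc := fun y z => by
        have h1 : π₃ y * (π₃ ⁅c, z⁆)⁻¹ * (π₃ y)⁻¹ = (π₃ ⁅c, z⁆)⁻¹ * β z y := by
          simp only [β, commutatorElement_def]; group
        have h2' : Commute ((π₃ ⁅c, y⁆)⁻¹) (β z y) := (h3cen' _ (hX z) y ⁅c, y⁆).inv_left
        calc π₃ (y * z) * Cc * (π₃ (y * z))⁻¹
            = π₃ y * (π₃ z * Cc * (π₃ z)⁻¹) * (π₃ y)⁻¹ := by rw [map_mul]; group
          _ = (π₃ y * (π₃ ⁅c, z⁆)⁻¹ * (π₃ y)⁻¹) * (π₃ y * Cc * (π₃ y)⁻¹) := by rw [hone z]; group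
          _ = (π₃ ⁅c, z⁆)⁻¹ * β z y * ((π₃ ⁅c, y⁆)⁻¹ * Cc) := by rw [h1, hone y]
          _ = (π₃ ⁅c, z⁆)⁻¹ * (β z y * (π₃ ⁅c, y⁆)⁻¹) * Cc := by group
          _ = _ := by rw [← h2'.eq]; group
      have hsame : π₃ (e * g) * Cc * (π₃ (e * g))⁻¹ = π₃ (g * e) * Cc * (π₃ (g * e))⁻¹ := by
        have hf : (g * e)⁻¹ * (e * g) ∈ Φ := by
          have h := PGroup.commutatorElement_mem_frattini hH e⁻¹ g⁻¹
          convert h using 1
          rw [commutatorElement_def]; group
        have h := hΦab _ hf c (Or.inr rfl)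
        conv_lhs => rw [show e * g = g * e * ((g * e)⁻¹ * (e * g)) by group, map_mul π₃ (g * e)]
        rw [mul_assoc (π₃ (g * e)), h.eq]
        simp only [Cc]
        group
      rw [htwo, htwo] at hsame
      have h1 := mul_right_cancel hsame
      rw [((hψab _ (hX g) _ (hX e)).inv_inv).eq] at h1
      exact (mul_left_cancel h1).symm
    have hinv : ∀ e g, β (α e) (α g) = β e g := by
      intro e g
      have h1 : π₃ (α ⁅⁅c, e⁆, g⁆) = β e g := by
        rw [hαχ _ (commutator_mem_step (hX e) g), map_commutatorElement]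
      rw [← h1, map_commutatorElement α, map_commutatorElement α]
      show ⁅π₃ ⁅c, α e⁆, π₃ (α g)⁆ = _
      rw [map_commutatorElement π₃ ⁅α c, α e⁆]
      refine hcong _ ?_ _ (hX _) ?_ _
      · rw [← map_commutatorElement α]; exact mem_iff_of_characteristic hψc α (hX e)
      · rw [show α c = c * (c⁻¹ * α c) by group, map_commutatorElement π₂ (c * _), map_mul π₂,
          PGroup.commutator_mul_left, commutatorElement_eq_one_iff_commute.2 (h2cen _ hαc (π₂ (α e))).symm,
          one_mul, map_commutatorElement π₂ c]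
        rw [commutatorElement_eq_one_iff_commute.2 (h2cen _ hαc (π₂ (α e))).symm]
        exact Commute.one_right _
    have hαb : α b = b * (b⁻¹ * α b) := by group
    have hD : β b b = 1 := by
      have h := hinv a b
      rw [hαa, hαb, hβr, hβl, hβΦr _ hbb, mul_one] at h
      exact mul_eq_left.1 h
    have hB : β a b = 1 := by
      have h := hinv a a
      rw [hαa, hβr, hβl, hβl, hD, mul_one, hsymm b a, mul_assoc, mul_eq_left] at h
      have hord : β a b ^ p = 1 := by
        show ⁅π₃ ⁅c, a⁆, π₃ b⁆ ^ p = 1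
        rw [← map_commutatorElement, ← map_pow, h31]
        exact pow_mem_step (commutator_mem_step (hX a) b)
      have hh : β a b ^ (p + 1) = β a b := by rw [pow_succ, hord, one_mul]
      obtain ⟨m, hm⟩ := hp'.odd_of_ne_two hp2
      rw [show p + 1 = 2 * (m + 1) by omega, pow_mul, pow_two, h, one_pow] at hh
      exact hh.symm
    -- hence `b` centralizes `ψ` modulo `χ'`
    let U : Subgroup H :=
      { carrier := {g | ∀ v ∈ ψ, ⁅π₃ v, π₃ g⁆ = 1}
        one_mem' := fun v _ => by rw [map_one, commutatorElement_one_right]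
        mul_mem' := fun {g g'} hg hg' v hv => by rw [hθ v hv, hg v hv, hg' v hv, one_mul]
        inv_mem' := fun {g} hg v hv => by
          have h := hθ v hv g g⁻¹
          rw [mul_inv_cancel, map_one, commutatorElement_one_right, hg v hv, one_mul] at h
          exact h.symm }
    have hbmem : b ∈ U := by
      intro v hv
      obtain ⟨e, he⟩ := hψκ v hv
      rw [show v = ⁅c, e⁆ * (⁅c, e⁆⁻¹ * v) by group, hθχ _ (hX e) _ he]
      let f : H →* H ⧸ χ' := MonoidHom.mk' (fun e => β e b) fun e e' => hβl e e' b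
      exact hgens f hB hD e
    have hUtop : U = ⊤ := by
      refine hchar U (characteristic_of_mem fun γ g hg v hv => ?_) (fun f hf v hv => ?_)
        fun e => hb (e ▸ hbmem)
      · have h := hg (γ⁻¹ v) (mem_iff_of_characteristic hψc γ⁻¹ hv)
        rw [← map_commutatorElement, h31] at h ⊢
        have h' := mem_iff_of_characteristic hχ'c γ h
        rwa [map_commutatorElement, MulAut.apply_inv_self] at h'
      · exact commutatorElement_eq_one_iff_commute.2 (hΦab f hf v (Or.inl hv)).symm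
    refine (step_lt hH hne).ne (le_antisymm (step_le χ) ?_)
    refine step_le_iff.2 ⟨fun v hv g => ?_, fun v hv => ?_⟩
    · rw [← h31, map_commutatorElement]
      exact (show g ∈ U from hUtop ▸ Subgroup.mem_top g) v hv
    · rw [← h31, map_pow]; exact hψe v hv
  -- the shape
  have hψcen : ψ ≤ Subgroup.center H := fun v hv => Subgroup.mem_center_iff.2 fun g => by
    have h : ⁅v, g⁆ ∈ χ := commutator_mem_step hv g
    rw [hχ0, Subgroup.mem_bot, commutatorElement_eq_one_iff_mul_comm] at h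
    exact h.symm
  have hψexp : ∀ v ∈ ψ, v ^ p = 1 := fun v hv => Subgroup.mem_bot.1 (hχ0 ▸ pow_mem_step hv)
  have hcp : c ^ p = 1 := Subgroup.mem_bot.1 (hχ0 ▸ ((h21 _).1 (by rw [map_pow, h2cp])))
  have hcard2 : Nat.card ψ = p ^ 2 := by rw [hcardψ, hχ0, Subgroup.card_bot, mul_one]
  have hcardΦ3 : Nat.card Φ = p ^ 3 := by
    have hlt : ψ < Φ := SetLike.lt_iff_le_and_exists.2 ⟨hψΦ, c, hcψ, hcnψ⟩
    have h := PGroup.mul_card_le_of_lt hH hlt
    rw [hcard2] at h hcardΦ
    rw [pow_succ' p 2]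
    exact le_antisymm hcardΦ h
  refine ⟨by rw [hcardH, hcardΦ3, ← pow_add], hcardΦ3, fun f hf => ?_, fun f hf => ?_, hψcen, fun v hv => ?_, ?_⟩
  · obtain ⟨i, hi⟩ := hΦdec f hf
    rw [show f = c ^ i * ((c ^ i)⁻¹ * f) by group,
      Commute.mul_pow (Subgroup.mem_center_iff.1 (hψcen hi) _), hψexp _ hi, mul_one, ← pow_mul, mul_comm,
      pow_mul, hcp, one_pow]
  · rw [← hbdef, ← hcdef]
    obtain ⟨i, hi⟩ := hΦdec f hf
    have := mul_mem (Subgroup.mem_sup_left (T := ψ) (pow_mem (Subgroup.subset_closure (Set.mem_singleton c)) i))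
      (Subgroup.mem_sup_right hi)
    rwa [mul_inv_cancel_left] at this
  · rw [← hbdef, ← hcdef]
    set L := Subgroup.closure ({⁅c, a⁆, ⁅c, b⁆} : Set H) with hL
    obtain ⟨e, he⟩ := hψκ v hv
    rw [hχ0, Subgroup.mem_bot, inv_mul_eq_one] at he
    subst he
    have hll : ∀ u w, ⁅c, u * w⁆ = ⁅c, u⁆ * ⁅c, w⁆ := fun u w => PGroup.commutator_mul_right
      (Subgroup.mem_center_iff.1 (hψcen (RankThreeEss.commutator_mem_psi hcψ w)) u)
    let f : H →* H := MonoidHom.mk' (fun e => ⁅c, e⁆) hll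
    have htop : L.comap f = ⊤ := by
      refine frattini_nongenerating (top_le_iff.1 (hgen.ge.trans (sup_le ?_ le_sup_right)))
      refine le_trans ((Subgroup.closure_le _).2 ?_) le_sup_left
      rintro u (rfl | rfl)
      · exact Subgroup.subset_closure (by simp [f])
      · exact Subgroup.subset_closure (by simp [f])
    exact (show e ∈ L.comap f from htop ▸ Subgroup.mem_top e)
  · rw [← hbdef, ← hcdef]
    intro hfix
    have h1 : α ⁅c, a⁆ = ⁅c, a⁆ * ⁅c, b⁆ := by
      rw [map_commutatorElement, hαa, show α c = c * (c⁻¹ * α c) by group]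
      rw [commutatorElement_mul_left_eq_conj_mul,
        commutatorElement_eq_one_iff_mul_comm.2 (Subgroup.mem_center_iff.1 (hψcen hαc) (a * b)).symm]
      rw [mul_one, mul_inv_cancel, one_mul]
      exact PGroup.commutator_mul_right
        (Subgroup.mem_center_iff.1 (hψcen (RankThreeEss.commutator_mem_psi hcψ b)) a)
    rw [hfix, left_eq_mul] at h1
    exact hb ((hcomm_iff b).1 (h1 ▸ one_mem _))

end Cfsg.Agent.SectionalThree
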