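import Cfsg.Agent.Lib.RankThreeEss.Model
import Cfsg.Agent.Lib.SectionalThree.Commutator
import Cfsg.Agent.Lib.SectionalThree.TwoGen
import Cfsg.Agent.Lib.PGroup.Omega

/-!
# The regular case

`regular_facts` : when `N` acts as a regular unipotent element on the Frattini quotient of `E`, the group `N`
has two generators, and `E` is elementary abelian of order `p ^ 3` or has its elements of order `p` in `Φ(E)`.
-/

set_option autoImplicit false
set_option linter.unusedSectionVars false
set_option linter.style.haveILetI false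
set_option maxHeartbeats 1000000

namespace Cfsg.Agent.SectionalThree

open RankThreeEss
open scoped commutatorElement

variable {p : ℕ} [hp : Fact p.Prime] {N : Type*} [Group N] [Finite N] {G : Type*} [Group G] [Finite G]
  {W : Type*} [AddCommGroup W] [Module (ZMod p) W] {E : Subgroup N} [E.Normal]

/-- No characteristic subgroup strictly between `Φ(E)` and `E`. -/
theorem char_eq_top (D : Model p N E G W) {u : G} (hu : ∃ k : ℕ, u ^ p ^ k = 1) {d : W}
    (hd : D.R.nil u (D.R.nil u d) ≠ 0) {U : Subgroup E} (hU : U.Characteristic) (hΦU : frattini E ≤ U)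
    {e₀ : E} (he₀ : e₀ ∈ U) (he₀' : e₀ ∉ frattini E) : U = ⊤ := by
  refine (Subgroup.eq_top_iff' U).2 fun e => ?_
  let V : AddSubgroup W :=
    { carrier := D.proj '' (U : Set E)
      add_mem' := by
        rintro _ _ ⟨a, ha, rfl⟩ ⟨b, hb, rfl⟩
        exact ⟨a * b, mul_mem ha hb, D.proj_mul a b⟩
      zero_mem' := ⟨1, one_mem _, D.proj_one⟩
      neg_mem' := by
        rintro _ ⟨a, ha, rfl⟩
        exact ⟨a⁻¹, inv_mem ha, D.proj_inv a⟩ }
  obtain ⟨e', he', he'p⟩ := D.R.eq_top_of_invariant hu hd V (fun g v hv => by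
    obtain ⟨a, ha, rfl⟩ := hv
    obtain ⟨α, hα⟩ := D.lift g
    exact ⟨α a, (Subgroup.characteristic_iff_comap_eq.1 hU α).ge ha, (hα a).symm⟩)
    ⟨e₀, he₀, rfl⟩ (fun h => he₀' ((D.proj_eq_zero _).1 h)) (D.proj e)
  have := mul_mem he' (hΦU ((D.proj_eq_iff e' e).1 he'p))
  rwa [mul_inv_cancel_left] at this

theorem regular_facts (D : Model p N E G W) (five : 5 ≤ p) (hN : IsPGroup p N)
    (hsr : Cfsg.SectionalPRankLE p 3 N) {x : N} (hgen : ∀ n : N, ∃ i : ℕ, (x ^ i)⁻¹ * n ∈ E)
    (hsq : D.R.nil (D.χ x) * D.R.nil (D.χ x) ≠ 0) :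
    (frattini N).index ≤ p ^ 2 ∧
      (Nat.card E = p ^ 3 ∨ ∀ e : E, e ^ p = 1 → e ∈ frattini E) ∧
      (Nat.card E = p ^ 3 → Nat.card (E ⊓ Subgroup.center N : Subgroup N) ≤ p) := by
  have hp1 := hp.out.one_lt
  have hp2 : p ≠ 2 := by omega
  have hEp : IsPGroup p E := hN.to_subgroup E
  obtain ⟨k, hk⟩ := hN x
  have hu : ∃ k : ℕ, D.χ x ^ p ^ k = 1 := ⟨k, by rw [← map_pow, hk, map_one]⟩
  obtain ⟨dW, hd⟩ : ∃ d, D.R.nil (D.χ x) (D.R.nil (D.χ x) d) ≠ 0 := by
    by_contra h
    push Not at h
    exact hsq (LinearMap.ext fun v => by rw [Module.End.mul_apply, h, LinearMap.zero_apply])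
  obtain ⟨d, rfl⟩ := D.proj_surj dW
  have hAd : ∀ e : E, D.proj (e⁻¹ * MulAut.conjNormal x e) = D.R.nil (D.χ x) (D.proj e) := fun e => by
    rw [D.proj_mul, D.proj_inv, ← D.act, D.R.apply_eq, neg_add_cancel_left]
  set L := d⁻¹ * MulAut.conjNormal x d with hL
  set c := L⁻¹ * MulAut.conjNormal x L with hc
  have hLp : D.proj L = D.R.nil (D.χ x) (D.proj d) := hAd d
  have hcp : D.proj c = D.R.nil (D.χ x) (D.R.nil (D.χ x) (D.proj d)) := by rw [hc, hAd, hLp]
  have hind : ∀ i j l : ZMod p, i • D.proj d + j • D.proj L + l • D.proj c = 0 → i = 0 ∧ j = 0 ∧ l = 0 := by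
    rw [hLp, hcp]; exact D.R.chain_indep hu hd
  have hgenE : Subgroup.closure ({d, L, c} : Set E) = ⊤ := by
    refine frattini_nongenerating (eq_top_iff.2 fun e _ => ?_)
    obtain ⟨i, j, l, h⟩ := D.span_of_indep hind e
    have := mul_mem (Subgroup.mem_sup_left (T := frattini E) (mul_mem (mul_mem
      (pow_mem (Subgroup.subset_closure (show d ∈ ({d, L, c} : Set E) by simp)) i)
      (pow_mem (Subgroup.subset_closure (show L ∈ ({d, L, c} : Set E) by simp)) j))
      (pow_mem (Subgroup.subset_closure (show c ∈ ({d, L, c} : Set E) by simp)) l)))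
      (Subgroup.mem_sup_right h)
    rwa [mul_inv_cancel_left] at this
  refine ⟨?_, ?_, ?_⟩
  · -- two generators
    set T := Subgroup.closure ({x, (d : N)} : Set N) with hT
    have hxT : x ∈ T := Subgroup.subset_closure (by simp)
    have hstep : ∀ e : E, (e : N) ∈ T → ((e⁻¹ * MulAut.conjNormal x e : E) : N) ∈ T := fun e he => by
      rw [Subgroup.coe_mul, Subgroup.coe_inv, MulAut.conjNormal_apply]
      exact mul_mem (inv_mem he) (mul_mem (mul_mem hxT he) (inv_mem hxT))
    have hdT : (d : N) ∈ T := Subgroup.subset_closure (by simp)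
    have hLT : (L : N) ∈ T := hstep d hdT
    have hET : (⊤ : Subgroup E) ≤ T.comap E.subtype := by
      rw [← hgenE, Subgroup.closure_le]
      rintro e (rfl | rfl | rfl)
      exacts [hdT, hLT, hstep L hLT]
    have hTtop : T = ⊤ := top_le_iff.1 fun n _ => by
      obtain ⟨i, hi⟩ := hgen n
      have := mul_mem (pow_mem hxT i) (hET (Subgroup.mem_top ⟨_, hi⟩) : (x ^ i)⁻¹ * n ∈ T)
      rwa [mul_inv_cancel_left] at this
    rw [Subgroup.index_eq_card]
    refine card_le_sq (fun q => QuotientGroup.induction_on q fun q => by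
        rw [← QuotientGroup.mk_pow]; exact (QuotientGroup.eq_one_iff _).2 (PGroup.pow_mem_frattini hN q))
      (fun u v => QuotientGroup.induction_on u fun u => QuotientGroup.induction_on v fun v => by
        refine commutatorElement_eq_one_iff_commute.1 ?_
        exact (QuotientGroup.eq_one_iff _).2 (PGroup.commutatorElement_mem_frattini hN u v))
      (v := (x : N ⧸ frattini N)) (w := ((d : N) : N ⧸ frattini N)) ?_
    have h1 := congrArg (Subgroup.map (QuotientGroup.mk' (frattini N))) hTtop
    rw [hT, MonoidHom.map_closure, Set.image_pair,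
      Subgroup.map_top_of_surjective _ (QuotientGroup.mk'_surjective _)] at h1
    exact h1
  · -- elements of order `p`
    set U := Subgroup.closure {e : E | e ^ p = 1} ⊔ frattini E with hU
    have hUc : U.Characteristic := characteristic_of_mem fun β v hv => by
      have hle : U ≤ U.comap β.toMonoidHom := sup_le
        ((Subgroup.closure_le _).2 fun w (hw : w ^ p = 1) => Subgroup.mem_comap.2 (Subgroup.mem_sup_left
          (Subgroup.subset_closure (show (β w) ^ p = 1 by rw [← map_pow, hw, map_one]))))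
        (fun w hw => Subgroup.mem_comap.2 (Subgroup.mem_sup_right (mem_iff_of_characteristic inferInstance β hw)))
      exact hle hv
    by_cases hall : ∀ e : E, e ^ p = 1 → e ∈ frattini E
    · exact Or.inr hall
    left
    push Not at hall
    obtain ⟨e₀, he₀, he₀'⟩ := hall
    have hUtop : Subgroup.closure {e : E | e ^ p = 1} = ⊤ :=
      frattini_nongenerating (char_eq_top D hu hd hUc le_sup_right
        (Subgroup.mem_sup_left (Subgroup.subset_closure he₀)) he₀')
    -- the quotient by `ψ` has exponent `p` and class two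
    set ψ := psi p E with hψ
    haveI : ψ.Characteristic := psi_characteristic
    let π := QuotientGroup.mk' ψ
    have hπ : Function.Surjective π := QuotientGroup.mk'_surjective ψ
    have hπ1 : ∀ v : E, π v = 1 ↔ v ∈ ψ := fun v => QuotientGroup.eq_one_iff v
    have hcen : ∀ u v : E ⧸ ψ, ⁅u, v⁆ ∈ Subgroup.center (E ⧸ ψ) := fun u v => by
      obtain ⟨u, rfl⟩ := hπ u
      obtain ⟨v, rfl⟩ := hπ v
      rw [← map_commutatorElement]
      refine Subgroup.mem_center_iff.2 fun g => ?_
      obtain ⟨g, rfl⟩ := hπ g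
      rw [← commutatorElement_eq_one_iff_mul_comm, ← map_commutatorElement, hπ1]
      exact commutator_mem_psi' (PGroup.commutatorElement_mem_frattini hEp u v) g
    have hexp : ∀ q : E ⧸ ψ, q ^ p = 1 := fun q => by
      obtain ⟨v, rfl⟩ := hπ q
      refine PGroup.exponent_omega_classTwo hp.out hp2 hcen ?_
      have h : v ∈ Subgroup.closure {e : E | e ^ p = 1} := hUtop ▸ Subgroup.mem_top v
      have h' := Subgroup.mem_map_of_mem π h
      rw [MonoidHom.map_closure] at h'
      refine Subgroup.closure_mono ?_ h'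
      rintro _ ⟨w, hw, rfl⟩
      show π w ^ p = 1
      rw [← map_pow, show w ^ p = 1 from hw, map_one]
    have hfr : (frattini E).map π = _root_.commutator (E ⧸ ψ) := by
      rw [PGroup.frattini_map hEp hπ]
      refine le_antisymm ?_ (PGroup.commutator_le_frattini (hEp.to_quotient ψ))
      exact PGroup.frattini_le_of_quotient_elementary (p := p) le_rfl fun q => by rw [hexp q]; exact one_mem _
    have hcomap : ∀ v : E, π v ∈ _root_.commutator (E ⧸ ψ) → v ∈ frattini E := fun v hv => by
      rw [← hfr] at hv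
      obtain ⟨w, hw, he⟩ := hv
      simpa using mul_mem hw (psi_le_frattini (QuotientGroup.eq.1 he))
    have hidx : p ^ 3 ≤ (_root_.commutator (E ⧸ ψ)).index := by
      rw [← D.index_frattini, ← hfr, Subgroup.index_map_eq _ hπ ((QuotientGroup.ker_mk' ψ).le.trans psi_le_frattini)]
    have hgenQ : Subgroup.closure ({π d, π L, π c} : Set (E ⧸ ψ)) = ⊤ := by
      have h1 := congrArg (Subgroup.map π) hgenE
      rw [MonoidHom.map_closure, Set.image_insert_eq, Set.image_pair, Subgroup.map_top_of_surjective _ hπ] at h1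
      exact h1
    have hsmall := card_commutator_le hexp hcen hidx (sectional_injective E.subtype E.subtype_injective hsr)
      π hπ hgenQ
    obtain ⟨z, hzc, hzD⟩ := exists_central hexp hcen hidx hgenQ hsmall
    obtain ⟨z, rfl⟩ := hπ z
    let U2 : Subgroup E := (Subgroup.center (E ⧸ ψ)).comap π
    have hU2mem : ∀ v, v ∈ U2 ↔ ∀ g, ⁅v, g⁆ ∈ ψ := fun v => by
      refine ⟨fun h g => ?_, fun h => Subgroup.mem_center_iff.2 fun g => ?_⟩
      · rw [← hπ1, map_commutatorElement, commutatorElement_eq_one_iff_mul_comm]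
        exact (Subgroup.mem_center_iff.1 h (π g)).symm
      · obtain ⟨g, rfl⟩ := hπ g
        exact (commutatorElement_eq_one_iff_mul_comm.1 (by rw [← map_commutatorElement, hπ1]; exact h g)).symm
    have hU2 : U2 = ⊤ := char_eq_top D hu hd (characteristic_of_mem fun β v hv => by
        rw [hU2mem] at hv ⊢
        intro g
        have h := mem_iff_of_characteristic (inferInstance : ψ.Characteristic) β (hv (β⁻¹ g))
        rwa [map_commutatorElement, MulAut.apply_inv_self] at h)
      (fun v hv => (hU2mem v).2 fun g => commutator_mem_psi hv g)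
      (show z ∈ U2 from hzc) (fun h => hzD (hfr.le (Subgroup.mem_map_of_mem π h)))
    have hΦψ : frattini E ≤ ψ := PGroup.frattini_le_of_quotient_elementary (p := p) (by
        rw [_root_.commutator_def, Subgroup.commutator_le]
        exact fun u _ v _ => (hU2mem u).1 (hU2 ▸ Subgroup.mem_top u) v)
      fun v => by rw [← hπ1, map_pow, hexp]
    have hΦbot : frattini E = ⊥ := by
      by_contra h
      exact psi_ne_frattini hEp h (le_antisymm psi_le_frattini hΦψ)
    have h := D.index_frattini
    rwa [hΦbot, Subgroup.index_bot] at h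
  · -- central elements
    intro hcard
    have hΦbot : frattini E = ⊥ := by
      have h := (frattini E).card_mul_index
      rw [D.index_frattini, hcard] at h
      exact Subgroup.eq_bot_of_card_eq _ (Nat.eq_of_mul_eq_mul_right (pow_pos hp.out.pos 3)
        (h.trans (one_mul _).symm))
    have hinj : Function.Injective D.proj := fun a b h => by
      have := (D.proj_eq_iff a b).1 h
      rwa [hΦbot, Subgroup.mem_bot, inv_mul_eq_one] at this
    have h3 := D.R.nil_cube_apply hu (D.proj d)
    have hline : ∀ v : (E ⊓ Subgroup.center N : Subgroup N), ∃ l : ZMod p,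
        D.proj ⟨v, v.2.1⟩ = l • D.R.nil (D.χ x) (D.R.nil (D.χ x) (D.proj d)) := by
      rintro ⟨v, hvE, hvc⟩
      obtain ⟨i, j, l, h⟩ := D.R.chain_coords hu hd (D.proj ⟨v, hvE⟩)
      have hfix : D.R.nil (D.χ x) (D.proj ⟨v, hvE⟩) = 0 := by
        rw [← hAd, D.proj_eq_zero]
        have e : (⟨v, hvE⟩ : E)⁻¹ * MulAut.conjNormal x ⟨v, hvE⟩ = 1 := Subtype.ext (by
          rw [Subgroup.coe_mul, MulAut.conjNormal_apply, Subgroup.coe_inv]
          show v⁻¹ * (x * v * x⁻¹) = 1
          rw [Subgroup.mem_center_iff.1 hvc x, mul_inv_cancel_right, inv_mul_cancel])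
        rw [e]; exact one_mem _
      rw [h] at hfix
      simp only [map_add, map_smul, h3, smul_zero, add_zero] at hfix
      have h2 := congrArg (fun w => D.R.nil (D.χ x) w) hfix
      simp only [map_add, map_smul, h3, smul_zero, add_zero, map_zero] at h2
      obtain rfl : i = 0 := (smul_eq_zero.1 h2).resolve_right hd
      rw [zero_smul, zero_add] at hfix
      obtain rfl : j = 0 := (smul_eq_zero.1 hfix).resolve_right hd
      exact ⟨l, by rw [h, zero_smul, zero_smul, zero_add, zero_add]⟩
    choose l hl using hline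
    have := Nat.card_le_card_of_injective l (fun v w h => by
      have e : (⟨v, v.2.1⟩ : E) = ⟨w, w.2.1⟩ := hinj (by rw [hl, hl, h])
      exact Subtype.ext (congrArg (fun a : E => (a : N)) e))
    rwa [Nat.card_zmod] at this

end Cfsg.Agent.SectionalThree
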