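import Cfsg.Agent.Lib.SectionalThree.Setup
import Cfsg.Agent.Lib.SectionalThree.Torus
import Cfsg.Agent.Lib.SectionalThree.Line
import Cfsg.Agent.Lib.RankThreeEss.Final

/-!
# The transvection case

* `frame_facts` : a group with a frame has class two, exponent `p`, and its Frattini quotient has order at least `p ^ 3`;
* `trans_facts` : the consequences for `S`;
* `trans_line` : when `Φ(E) = ⊥`, a central line invariant under `Aut_F(S)` and `Aut_F(E)`.
-/

set_option autoImplicit false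
set_option linter.unusedSectionVars false
set_option linter.style.haveILetI false
set_option maxHeartbeats 1000000

namespace Cfsg.Agent.SectionalThree

open Cfsg Cfsg.FusionSystem Cfsg.Agent.Fusion RankThreeEss
open scoped commutatorElement

universe u

variable {p : ℕ} [hp : Fact p.Prime]

theorem frame_facts {Q : Type*} [Group Q] [Finite Q] (hp2 : p ≠ 2) {x a z c : Q} {τ : MulAut Q} {l m : ℕ}
    (fr : Frame p x a z c τ l m) :
    (∀ u v : Q, ⁅u, v⁆ ∈ Subgroup.zpowers z) ∧ (∀ u : Q, u ^ p = 1) ∧ Subgroup.closure {x, a, z, c} = ⊤ := by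
  have hgen : Subgroup.closure {x, a, z, c} = ⊤ := top_le_iff.1 fun v _ => by
    obtain ⟨i, j, k, r, rfl⟩ := fr.span v
    exact mul_mem (mul_mem (mul_mem (pow_mem (Subgroup.subset_closure (by simp)) i)
      (pow_mem (Subgroup.subset_closure (by simp)) j)) (pow_mem (Subgroup.subset_closure (by simp)) k))
      (pow_mem (Subgroup.subset_closure (by simp)) r)
  haveI hZn : (Subgroup.zpowers z).Normal := PGroup.zpowers_normal_of_mem_center fr.z_mem
  let δ := QuotientGroup.mk' (Subgroup.zpowers z)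
  have hδz : δ z = 1 := (QuotientGroup.eq_one_iff _).2 (Subgroup.mem_zpowers _)
  have hxa : Commute (δ x) (δ a) := by
    show δ x * δ a = δ a * δ x
    rw [← mul_inv_eq_iff_eq_mul, ← map_mul, ← map_inv, ← map_mul, fr.xa, map_mul, hδz, mul_one]
  have hcomm : ∀ u v, Commute (δ u) (δ v) := commute_of_closure δ hgen (by
    rintro u (rfl | rfl | rfl | rfl) v (rfl | rfl | rfl | rfl)
    all_goals first
      | exact Commute.refl _
      | exact hxa
      | exact hxa.symm
      | exact (fr.z_central _).map δ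
      | exact ((fr.z_central _).map δ).symm
      | exact (fr.c_central _).map δ
      | exact ((fr.c_central _).map δ).symm)
  have hc : ∀ u v : Q, ⁅u, v⁆ ∈ Subgroup.zpowers z := fun u v => (QuotientGroup.eq_one_iff _).1 (by
    show δ ⁅u, v⁆ = 1
    rw [map_commutatorElement, commutatorElement_eq_one_iff_commute]; exact hcomm u v)
  refine ⟨hc, fun u => ?_, hgen⟩
  have hz : ∀ w ∈ Subgroup.zpowers z, w ^ p = 1 ∧ ∀ g, Commute g w := fun w hw => by
    obtain ⟨i, rfl⟩ := Subgroup.mem_zpowers_iff.1 hw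
    exact ⟨by rw [← zpow_natCast, zpow_comm, zpow_natCast, fr.pz, one_zpow],
      fun g => (fr.z_central g).symm.zpow_right i⟩
  have hu : u ∈ Subgroup.closure {x, a, z, c} := hgen ▸ Subgroup.mem_top u
  induction hu using Subgroup.closure_induction with
  | mem y hy => rcases hy with rfl | rfl | rfl | rfl; exacts [fr.px, fr.pa, fr.pz, fr.pc]
  | one => exact one_pow p
  | mul y y' _ _ h h' =>
    obtain ⟨h1, h2⟩ := hz _ (hc y' y)
    rw [PGroup.mul_pow_prime_eq hp.out hp2 (h2 y) (h2 y') h1, h, h', one_mul]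
  | inv y _ h => rw [inv_pow, h, inv_one]

/-- Exponents in a frame are determined modulo `p`. -/
theorem frame_exps {Q : Type*} [Group Q] [Finite Q] {x a z c : Q} {τ : MulAut Q} {l m : ℕ}
    (fr : Frame p x a z c τ l m) {i j k r i' j' k' r' : ℕ}
    (h : x ^ i * a ^ j * z ^ k * c ^ r = x ^ i' * a ^ j' * z ^ k' * c ^ r') :
    (i : ZMod p) = i' ∧ (j : ZMod p) = j' ∧ (k : ZMod p) = k' ∧ (r : ZMod p) = r' := by
  have hinv : ∀ (y : Q) (q : ℕ), y ^ p = 1 → y ^ ((p - 1) * q) = (y ^ q)⁻¹ := fun y q hy => by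
    rw [eq_inv_iff_mul_eq_one, ← pow_add, show (p - 1) * q + q = p * q by
      rw [← Nat.succ_mul, Nat.succ_eq_add_one, Nat.sub_add_cancel hp.out.one_le], pow_mul, hy, one_pow]
  have hcz : ∀ g, Commute z g := fr.z_central
  have hcc : ∀ g, Commute c g := fr.c_central
  obtain ⟨h1, h2, h3, h4⟩ := fr.ind ((p - 1) * i' + i) (j + (p - 1) * j') (k + (p - 1) * k') (r + (p - 1) * r') (by
    rw [pow_add, pow_add, pow_add, pow_add, hinv _ _ fr.px, hinv _ _ fr.pa, hinv _ _ fr.pz, hinv _ _ fr.pc]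
    calc (x ^ i')⁻¹ * x ^ i * (a ^ j * (a ^ j')⁻¹) * (z ^ k * (z ^ k')⁻¹) * (c ^ r * (c ^ r')⁻¹)
        = (x ^ i')⁻¹ * x ^ i * a ^ j * ((a ^ j')⁻¹ * (z ^ k * (z ^ k')⁻¹)) * (c ^ r * (c ^ r')⁻¹) := by group
      _ = (x ^ i')⁻¹ * x ^ i * a ^ j * (z ^ k * (z ^ k')⁻¹ * (a ^ j')⁻¹) * (c ^ r * (c ^ r')⁻¹) := by
        rw [((((hcz a).pow_pow k j').inv_right).mul_left (((hcz a).pow_pow k' j').inv_inv)).eq]
      _ = (x ^ i')⁻¹ * x ^ i * a ^ j * z ^ k * (((z ^ k')⁻¹ * (a ^ j')⁻¹) * c ^ r) * (c ^ r')⁻¹ := by group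
      _ = (x ^ i')⁻¹ * x ^ i * a ^ j * z ^ k * (c ^ r * ((z ^ k')⁻¹ * (a ^ j')⁻¹)) * (c ^ r')⁻¹ := by
        rw [((((hcc z).pow_pow r k').inv_right).mul_right (((hcc a).pow_pow r j').inv_right)).eq]
      _ = (x ^ i')⁻¹ * (x ^ i * a ^ j * z ^ k * c ^ r) * (((z ^ k')⁻¹ * (a ^ j')⁻¹) * (c ^ r')⁻¹) := by group
      _ = (x ^ i')⁻¹ * (x ^ i' * a ^ j' * z ^ k' * c ^ r') * ((c ^ r')⁻¹ * ((z ^ k')⁻¹ * (a ^ j')⁻¹)) := by
        rw [h, ((((hcc z).pow_pow r' k').inv_inv).mul_right (((hcc a).pow_pow r' j').inv_inv)).eq]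
      _ = 1 := by group)
  rw [← ZMod.natCast_eq_zero_iff] at h1 h2 h3 h4
  have neg1 : ((p - 1 : ℕ) : ZMod p) = -1 := by
    rw [Nat.cast_sub hp.out.one_le, ZMod.natCast_self, Nat.cast_one, zero_sub]
  push_cast [neg1] at h1 h2 h3 h4
  exact ⟨by linear_combination h1, by linear_combination h2, by linear_combination h3, by linear_combination h4⟩

variable {Ω : Type u} [Group Ω] {S : Subgroup Ω} [Finite S] {F : FusionSystem S}
  {E : Subgroup Ω} [(E.subgroupOf S).Normal] {G : Type u} [Group G] [Finite G] {W : Type u}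
  [AddCommGroup W] [Module (ZMod p) W] (d : Ess3 (p := p) F E G W)

/-- The image of `Φ(E)` in `S`. -/
def phiS (S E : Subgroup Ω) : Subgroup S := (frattini (E.subgroupOf S)).map (E.subgroupOf S).subtype

theorem trans_facts (five : 5 ≤ p) (hS : IsPGroup p S) (hsr : Cfsg.SectionalPRankLE p 3 S) (hF : F.IsSaturated p)
    (hE : F.IsEssential p E) {x : S} (hx : x ∉ E.subgroupOf S)
    (hsq : d.D.R.nil (d.D.χ x) * d.D.R.nil (d.D.χ x) = 0) :
    (phiS S E).Characteristic ∧ phiS S E ≤ frattini S ∧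
      (∀ u v g : S, ⁅⁅u, v⁆, g⁆ ∈ phiS S E) ∧ (∀ u : S, u ^ p ∈ phiS S E) ∧
      p ^ 2 < (frattini S).index ∧ ∃ e₁ e₂ e₃ : S, Subgroup.closure {e₁, e₂, e₃} = ⊤ := by
  have hp1 := hp.out.one_lt
  have hp2 : p ≠ 2 := by omega
  obtain ⟨l, m, lm, l2, l3, l5⟩ := exists_eigen (p := p) five
  have hu1 : d.D.χ x ≠ 1 := fun h => hx ((d.D.χ_eq_one x).1 h)
  have hu := d.exists_pk x hS
  have hlm : (m : ZMod p) * (l : ZMod p) = 1 := by rw [← Nat.cast_mul]; exact lm
  have lz : (l : ZMod p) ≠ 0 := fun h => by rw [h, mul_zero] at hlm; exact zero_ne_one hlm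
  obtain ⟨g, hg⟩ := exists_conj_not_mem_zpowers d.D.R hu hu1
  obtain ⟨a, z, c, t, hind, hua, huz, huc, hta, htz, htc, -, -⟩ :=
    exists_torus_pair d.D.R hu hu1 hsq hg (l : ZMod p) lz
  rw [show ((l : ZMod p))⁻¹ = (m : ZMod p) from inv_eq_of_mul_eq_one_left hlm] at hta
  obtain ⟨τ, -, hτE, hτt, hτx⟩ :=
    d.exists_tau hS hF hE hx t (torus_conj d.D.R hind hua huz huc hlm hta htz htc)
  obtain ⟨K, hK, hKfr, hKE, x₁, a₁, z₁, c₁, fr, hEiff⟩ :=
    d.D.exists_frame_of_torus (d.hgen hx) (d.hxp x) five hS hsr hx hind hua huz huc τ hτE t hτt hta htz htc hτx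
      lm l2 l3 l5
  obtain ⟨hcomm, hexp, -⟩ := frame_facts hp2 fr
  haveI := hK
  set En := E.subgroupOf S with hEn
  let π := QuotientGroup.mk' K
  have hπ : Function.Surjective π := QuotientGroup.mk'_surjective K
  have hπ1 : ∀ v : S, π v = 1 ↔ v ∈ K := fun v => QuotientGroup.eq_one_iff v
  -- `K` is the Frattini subgroup of `E`
  have hEp : IsPGroup p En := hS.to_subgroup En
  have hKeq : phiS S E = K := by
    let f : En →* S ⧸ K := π.comp En.subtype
    have hfc : ∀ u v : En, Commute (f u) (f v) := fun u v => by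
      obtain ⟨j, k, r, hu'⟩ := (hEiff u).1 u.2
      obtain ⟨j', k', r', hv'⟩ := (hEiff v).1 v.2
      show Commute ((u : S) : S ⧸ K) ((v : S) : S ⧸ K)
      rw [hu', hv']
      have hA : Commute (a₁ ^ j) (a₁ ^ j') := (Commute.refl _).pow_pow _ _
      exact (((hA.mul_right ((fr.z_central _).symm.pow_right k')).mul_right
        ((fr.c_central _).symm.pow_right r')).mul_left ((fr.z_central _).pow_left k)).mul_left
        ((fr.c_central _).pow_left r)
    have hle : frattini En ≤ f.ker := PGroup.frattini_le_of_quotient_elementary (p := p) (by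
      rw [_root_.commutator_def, Subgroup.commutator_le]
      intro u _ v _
      rw [MonoidHom.mem_ker, map_commutatorElement, commutatorElement_eq_one_iff_commute]
      exact hfc u v) fun u => by rw [MonoidHom.mem_ker, map_pow, hexp]
    have hcard : p ^ 3 ≤ f.ker.index := by
      rw [Subgroup.index_ker]
      have hmem : ∀ t : ZMod p × ZMod p × ZMod p,
          a₁ ^ t.1.val * z₁ ^ t.2.1.val * c₁ ^ t.2.2.val ∈ f.range := fun t => by
        obtain ⟨s, hs⟩ := hπ (a₁ ^ t.1.val * z₁ ^ t.2.1.val * c₁ ^ t.2.2.val)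
        exact ⟨⟨s, (hEiff s).2 ⟨_, _, _, hs⟩⟩, hs⟩
      refine le_trans (le_of_eq ?_) (Nat.card_le_card_of_injective (fun t => (⟨_, hmem t⟩ : f.range)) ?_)
      · rw [Nat.card_prod, Nat.card_prod, Nat.card_zmod]; ring
      intro t t' h
      have h' : a₁ ^ t.1.val * z₁ ^ t.2.1.val * c₁ ^ t.2.2.val =
          a₁ ^ t'.1.val * z₁ ^ t'.2.1.val * c₁ ^ t'.2.2.val := congrArg Subtype.val h
      obtain ⟨-, ha, hb, hc'⟩ := frame_exps fr (i := 0) (i' := 0) (j := t.1.val) (k := t.2.1.val)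
        (r := t.2.2.val) (j' := t'.1.val) (k' := t'.2.1.val) (r' := t'.2.2.val)
        (by rw [pow_zero, one_mul, one_mul, h'])
      simp only [ZMod.natCast_zmod_val] at ha hb hc'
      exact Prod.ext ha (Prod.ext hb hc')
    have hidx : (frattini En).index = p ^ 3 := d.D.index_frattini
    have heq : frattini En = f.ker := by
      refine PGroup.eq_of_le_of_card_le hle ?_
      have h1 := (frattini En).card_mul_index
      rw [← f.ker.card_mul_index, hidx] at h1
      refine Nat.le_of_mul_le_mul_right ?_ (pow_pos hp.out.pos 3)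
      calc Nat.card f.ker * p ^ 3 ≤ Nat.card f.ker * f.ker.index := Nat.mul_le_mul le_rfl hcard
        _ = Nat.card (frattini En) * p ^ 3 := h1.symm
    refine le_antisymm ?_ ?_
    · rintro _ ⟨v, hv, rfl⟩
      exact (hπ1 _).1 (MonoidHom.mem_ker.1 (heq ▸ hv : v ∈ f.ker))
    · intro v hv
      exact ⟨⟨v, hKE hv⟩, heq ▸ MonoidHom.mem_ker.2 ((hπ1 v).2 hv), rfl⟩
  rw [hKeq]
  refine ⟨hK, hKfr, fun u v g => ?_, fun u => ?_, ?_, ?_⟩
  · rw [← hπ1, map_commutatorElement, map_commutatorElement, commutatorElement_eq_one_iff_commute]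
    obtain ⟨i, hi⟩ := Subgroup.mem_zpowers_iff.1 (hcomm (π u) (π v))
    rw [← hi]
    exact (fr.z_central (π g)).zpow_left i
  · rw [← hπ1, map_pow, hexp]
  · -- the Frattini subgroup lies over `⟨z⟩`
    haveI hZn : (Subgroup.zpowers z₁).Normal := PGroup.zpowers_normal_of_mem_center fr.z_mem
    let δ : S →* (S ⧸ K) ⧸ Subgroup.zpowers z₁ := (QuotientGroup.mk' (Subgroup.zpowers z₁)).comp π
    have hle : frattini S ≤ δ.ker := PGroup.frattini_le_of_quotient_elementary (p := p) (by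
      rw [_root_.commutator_def, Subgroup.commutator_le]
      intro u _ v _
      show QuotientGroup.mk' (Subgroup.zpowers z₁) (π ⁅u, v⁆) = 1
      rw [map_commutatorElement π]
      exact (QuotientGroup.eq_one_iff _).2 (hcomm _ _))
      fun u => by
        show QuotientGroup.mk' (Subgroup.zpowers z₁) (π (u ^ p)) = 1
        rw [map_pow π, hexp, map_one]
    refine lt_of_lt_of_le ?_ (Nat.le_of_dvd (Nat.pos_of_ne_zero Subgroup.index_ne_zero_of_finite)
      (Subgroup.index_dvd_of_le hle))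
    have hδs : Function.Surjective δ := (QuotientGroup.mk'_surjective (Subgroup.zpowers z₁)).comp hπ
    rw [Subgroup.index_ker, MonoidHom.range_eq_top.2 hδs, Subgroup.card_top, ← Subgroup.index_eq_card]
    have hinj : p ^ 4 ≤ Nat.card (S ⧸ K) := by
      refine le_trans (le_of_eq ?_) (Nat.card_le_card_of_injective
        (fun t : ZMod p × ZMod p × ZMod p × ZMod p =>
          x₁ ^ t.1.val * a₁ ^ t.2.1.val * z₁ ^ t.2.2.1.val * c₁ ^ t.2.2.2.val) ?_)
      · rw [Nat.card_prod, Nat.card_prod, Nat.card_prod, Nat.card_zmod]; ring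
      rintro ⟨i, j, k, r⟩ ⟨i', j', k', r'⟩ h
      obtain ⟨h1, h2, h3, h4⟩ := frame_exps fr h
      simp only [ZMod.natCast_zmod_val] at h1 h2 h3 h4
      rw [h1, h2, h3, h4]
    have hz : Nat.card (Subgroup.zpowers z₁) ≤ p := by
      rw [Nat.card_zpowers]; exact orderOf_le_of_pow_eq_one hp.out.pos fr.pz
    rw [← (Subgroup.zpowers z₁).card_mul_index] at hinj
    have := hinj.trans (Nat.mul_le_mul hz le_rfl)
    rw [pow_succ' p 3] at this
    exact lt_of_lt_of_le (Nat.pow_lt_pow_right hp1 (by norm_num)) (Nat.le_of_mul_le_mul_left this hp.out.pos)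
  · -- three generators
    obtain ⟨sx, rfl⟩ := hπ x₁
    obtain ⟨sa, rfl⟩ := hπ a₁
    obtain ⟨sc, rfl⟩ := hπ c₁
    refine ⟨sx, sa, sc, frattini_nongenerating (top_le_iff.1 fun v _ => ?_)⟩
    obtain ⟨sz, hsz⟩ := hπ z₁
    have hfac : ∀ w, π w ∈ Subgroup.map π (Subgroup.closure {sx, sa, sc} ⊔ frattini S) →
        w ∈ Subgroup.closure {sx, sa, sc} ⊔ frattini S := by
      rintro w ⟨w', hw', he⟩
      have h := mul_mem hw' (Subgroup.mem_sup_right (S := Subgroup.closure {sx, sa, sc}) (hKfr (QuotientGroup.eq.1 he)))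
      rwa [mul_inv_cancel_left] at h
    have hzfr : z₁ ∈ Subgroup.map π (Subgroup.closure {sx, sa, sc} ⊔ frattini S) := by
      refine ⟨⁅sa⁻¹, sx⁆, Subgroup.mem_sup_right (PGroup.commutatorElement_mem_frattini hS _ _), ?_⟩
      rw [map_commutatorElement, map_inv, commutatorElement_def, inv_inv]
      rw [show (π sa)⁻¹ * π sx * π sa * (π sx)⁻¹ = (π sa)⁻¹ * (π sx * π sa * (π sx)⁻¹) by group, fr.xa,
        inv_mul_cancel_left]
    refine hfac v ?_
    obtain ⟨i, j, k, r, hv⟩ := fr.span (π v)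
    rw [hv]
    exact mul_mem (mul_mem (mul_mem
      (pow_mem (show π sx ∈ Subgroup.map π (Subgroup.closure {sx, sa, sc} ⊔ frattini S) from
        ⟨sx, Subgroup.mem_sup_left (Subgroup.subset_closure (by simp)), rfl⟩) i)
      (pow_mem (show π sa ∈ Subgroup.map π (Subgroup.closure {sx, sa, sc} ⊔ frattini S) from
        ⟨sa, Subgroup.mem_sup_left (Subgroup.subset_closure (by simp)), rfl⟩) j)) (pow_mem hzfr k))
      (pow_mem (show π sc ∈ Subgroup.map π (Subgroup.closure {sx, sa, sc} ⊔ frattini S) from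
        ⟨sc, Subgroup.mem_sup_left (Subgroup.subset_closure (by simp)), rfl⟩) r)

/-- A central element of order `p`, outside the derived subgroup, spanning a line invariant under `Aut_F(S)`. -/
def IsGood (p : ℕ) (F : FusionSystem S) (c : S) : Prop :=
  c ∈ Subgroup.center S ∧ c ∉ _root_.commutator S ∧ c ^ p = 1 ∧ ∀ σ ∈ F.autGroup S, σ c ∈ Subgroup.zpowers c

theorem trans_line (five : 5 ≤ p) (hS : IsPGroup p S) (hF : F.IsSaturated p)
    (hE : F.IsEssential p E) {x : S} (hx : x ∉ E.subgroupOf S)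
    (hsq : d.D.R.nil (d.D.χ x) * d.D.R.nil (d.D.χ x) = 0) (hK : phiS S E = ⊥) :
    ∃ c : S, c ∈ E.subgroupOf S ∧ IsGood p F c ∧
      (∀ α ∈ F.autGroup E, autFn α (c : Ω) ∈ Subgroup.zpowers (c : Ω)) ∧
      ∀ e, IsGood p F e → e ∈ Subgroup.zpowers c := by
  set En := E.subgroupOf S with hEn
  set R := d.D.R with hR
  have hΦ : frattini En = ⊥ := by
    rwa [phiS, Subgroup.map_eq_bot_iff_of_injective _ En.subtype_injective] at hK
  have hEp : IsPGroup p En := hS.to_subgroup En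
  have hEe : ∀ e : En, e ^ p = 1 := fun e => by
    have := PGroup.pow_mem_frattini hEp e
    rwa [hΦ, Subgroup.mem_bot] at this
  have hinj : Function.Injective d.D.proj := fun a b h => by
    have := (d.D.proj_eq_iff a b).1 h
    rwa [hΦ, Subgroup.mem_bot, inv_mul_eq_one] at this
  obtain ⟨l, m, lm, l2, -, -⟩ := exists_eigen (p := p) five
  have l1 : (l : ZMod p) ≠ 1 := fun h => l2 (by rw [h, one_pow])
  have hu1 : d.D.χ x ≠ 1 := fun h => hx ((d.D.χ_eq_one x).1 h)
  have hu := d.exists_pk x hS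
  have hlm : (m : ZMod p) * (l : ZMod p) = 1 := by rw [← Nat.cast_mul]; exact lm
  have lz : (l : ZMod p) ≠ 0 := fun h => by rw [h, mul_zero] at hlm; exact zero_ne_one hlm
  have hcoe : ∀ (e : En) (s : S), d.D.proj ⟨s * e * s⁻¹, (inferInstance : En.Normal).conj_mem _ e.2 s⟩ =
      R.ρ (d.D.χ s) (d.D.proj e) := fun e s => (d.D.act s e).symm
  have hfixc : ∀ e : En, R.ρ (d.D.χ x) (d.D.proj e) = d.D.proj e → (e : S) ∈ Subgroup.center S := by
    intro e he
    refine Subgroup.mem_center_iff.2 fun s => ?_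
    have h1 : R.ρ (d.D.χ s) (d.D.proj e) = d.D.proj e := by
      obtain ⟨i, hi⟩ : ∃ i : ℕ, d.D.χ x ^ i = d.D.χ s :=
        mem_powers_iff_mem_zpowers.2 ((d.range_eq hx).le ⟨s, rfl⟩)
      rw [← hi]
      clear hi
      induction i with
      | zero => rw [pow_zero, map_one, Module.End.one_apply]
      | succ i ih => rw [pow_succ, map_mul, Module.End.mul_apply, he, ih]
    have h2 : (⟨s * e * s⁻¹, (inferInstance : En.Normal).conj_mem _ e.2 s⟩ : En) = e := hinj (by rw [hcoe, h1])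
    exact mul_inv_eq_iff_eq_mul.1 (congrArg Subtype.val h2)
  have hcenE : ∀ v ∈ Subgroup.center S, ∃ hv : v ∈ En, R.ρ (d.D.χ x) (d.D.proj ⟨v, hv⟩) = d.D.proj ⟨v, hv⟩ := by
    intro v hv
    have hvE : v ∈ En := (d.D.χ_eq_one v).1 (R.inj (LinearMap.ext fun w => by
      obtain ⟨e, rfl⟩ := d.D.proj_surj w
      rw [← hcoe, map_one, Module.End.one_apply]
      exact congrArg d.D.proj (Subtype.ext (show v * e * v⁻¹ = e by
        rw [← Subgroup.mem_center_iff.1 hv, mul_inv_cancel_right]))))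
    refine ⟨hvE, ?_⟩
    rw [← hcoe]
    exact congrArg d.D.proj (Subtype.ext (show x * v * x⁻¹ = v by
      rw [Subgroup.mem_center_iff.1 hv x, mul_inv_cancel_right]))
  -- the consequences of a pair
  have hpair : ∀ g : G, g * d.D.χ x * g⁻¹ ∉ Subgroup.zpowers (d.D.χ x) → ∃ C : En,
      d.D.proj C ≠ 0 ∧ R.ρ (g * d.D.χ x * g⁻¹) (d.D.proj C) = d.D.proj C ∧
      (∀ w, R.ρ (d.D.χ x) w = w → R.ρ (g * d.D.χ x * g⁻¹) w = w → ∃ k : ZMod p, w = k • d.D.proj C) ∧
      IsGood p F C ∧ R.ρ (d.D.χ x) (d.D.proj C) = d.D.proj C ∧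
      ∀ e, IsGood p F e → e ∈ Subgroup.zpowers (C : S) := by
    intro g hg
    obtain ⟨a, z, c, t, hind, hua, huz, huc, hta, htz, htc, hvc, huniq⟩ :=
      exists_torus_pair R hu hu1 hsq hg (l : ZMod p) lz
    rw [show ((l : ZMod p))⁻¹ = (m : ZMod p) from inv_eq_of_mul_eq_one_left hlm] at hta
    obtain ⟨τ, hτA, hτE, hτt, -⟩ := d.exists_tau hS hF hE hx t (torus_conj R hind hua huz huc hlm hta htz htc)
    obtain ⟨a, rfl⟩ := d.D.proj_surj a
    obtain ⟨z, rfl⟩ := d.D.proj_surj z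
    obtain ⟨c, rfl⟩ := d.D.proj_surj c
    have hzc : (z : S) ∈ Subgroup.center S := hfixc z huz
    have hcc : (c : S) ∈ Subgroup.center S := hfixc c huc
    have hzp : (z : S) ^ p = 1 := congrArg Subtype.val (hEe z)
    have hcp : (c : S) ^ p = 1 := congrArg Subtype.val (hEe c)
    have hτz : τ z = (z : S) ^ l := by
      have h := hinj (a₁ := ⟨τ z, hτE z z.2⟩) (a₂ := z ^ l) (by rw [hτt, htz, d.D.proj_pow])
      exact congrArg Subtype.val h
    have hτc : τ c = (c : S) :=
      congrArg Subtype.val (hinj (a₁ := ⟨τ c, hτE c c.2⟩) (a₂ := c) (by rw [hτt, htc]))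
    have hzd : ∀ (e : En) (k : ZMod p), d.D.proj e = k • d.D.proj z → (e : S) ∈ Subgroup.zpowers (z : S) := by
      intro e k h
      have : e = z ^ k.val := hinj (by rw [d.D.proj_pow, ZMod.natCast_zmod_val, h])
      rw [this, Subgroup.coe_pow]
      exact pow_mem (Subgroup.mem_zpowers _) _
    haveI hZn : (Subgroup.zpowers (z : S)).Normal := PGroup.zpowers_normal_of_mem_center hzc
    have hzcomm : (z : S) ∈ _root_.commutator S := by
      have h : d.D.proj (a * z) = d.D.proj ⟨x * a * x⁻¹, (inferInstance : En.Normal).conj_mem _ a.2 x⟩ := by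
        rw [d.D.proj_mul, hcoe, hua]
      have h2 : (a : S) * z = x * a * x⁻¹ := congrArg Subtype.val (hinj h)
      have h3 : (z : S) = ⁅(a : S)⁻¹, x⁆ := by
        rw [commutatorElement_def, inv_inv, mul_assoc, mul_assoc, ← mul_assoc x, ← h2, inv_mul_cancel_left]
      rw [h3]
      exact Subgroup.commutator_mem_commutator (Subgroup.mem_top _) (Subgroup.mem_top _)
    have hcomm : _root_.commutator S ≤ Subgroup.zpowers (z : S) := by
      let δ := QuotientGroup.mk' (Subgroup.zpowers (z : S))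
      have hxe : ∀ e : En, Commute (δ x) (δ e) := fun e => by
        refine commutatorElement_eq_one_iff_commute.1 ?_
        rw [← map_commutatorElement]
        refine (QuotientGroup.eq_one_iff _).2 ?_
        obtain ⟨i, j, k, he⟩ := exists_coords R.card _ _ _ hind (d.D.proj e)
        refine hzd ⟨x * e * x⁻¹ * (e : S)⁻¹, mul_mem ((inferInstance : En.Normal).conj_mem _ e.2 x) (inv_mem e.2)⟩ i ?_
        rw [show (⟨x * e * x⁻¹ * (e : S)⁻¹, mul_mem ((inferInstance : En.Normal).conj_mem _ e.2 x) (inv_mem e.2)⟩ : En)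
          = ⟨x * e * x⁻¹, (inferInstance : En.Normal).conj_mem _ e.2 x⟩ * e⁻¹ from Subtype.ext rfl,
          d.D.proj_mul, d.D.proj_inv, hcoe, he]
        simp only [map_add, map_smul, hua, huz, huc, smul_add]
        abel
      have hEab : ∀ e e' : En, Commute (δ e) (δ e') := fun e e' => by
        refine Commute.map ?_ δ
        have h := PGroup.commutatorElement_mem_frattini hEp e e'
        rw [hΦ, Subgroup.mem_bot] at h
        exact congrArg Subtype.val (commutatorElement_eq_one_iff_mul_comm.1 h)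
      have hgen' : Subgroup.closure (insert x (En : Set S)) = ⊤ := top_le_iff.1 fun n _ => by
        obtain ⟨i, hi⟩ := d.hgen hx n
        have := mul_mem (pow_mem (Subgroup.subset_closure (Set.mem_insert x (En : Set S))) i)
          (Subgroup.subset_closure (Set.mem_insert_of_mem x hi))
        rwa [mul_inv_cancel_left] at this
      have hall := commute_of_closure δ hgen' (by
        rintro u (rfl | hu') v (rfl | hv')
        exacts [Commute.refl _, hxe ⟨v, hv'⟩, (hxe ⟨u, hu'⟩).symm, hEab ⟨u, hu'⟩ ⟨v, hv'⟩])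
      rw [_root_.commutator_def, Subgroup.commutator_le]
      intro u _ v _
      exact (QuotientGroup.eq_one_iff _).1 (show δ ⁅u, v⁆ = 1 by
        rw [map_commutatorElement, commutatorElement_eq_one_iff_commute]; exact hall u v)
    have hceq : _root_.commutator S = Subgroup.zpowers (z : S) :=
      le_antisymm hcomm (Subgroup.zpowers_le.2 hzcomm)
    obtain ⟨hinv, hun⟩ := line_fixed (p := p) (F.autGroup S)
      (fun σ hσ ⟨k, hk⟩ v hv => fix_center_of_pk hS hF hσ hk hv) hzc hcc hzp hcp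
      (fun σ _ => hceq.le (mem_iff_of_characteristic inferInstance σ hzcomm))
      (fun v hv => by
        obtain ⟨hvE, hfix⟩ := hcenE v hv
        obtain ⟨i, j, k, he⟩ := exists_coords R.card _ _ _ hind (d.D.proj ⟨v, hvE⟩)
        rw [he] at hfix
        simp only [map_add, map_smul, hua, huz, huc, smul_add] at hfix
        have hi : i • d.D.proj z = 0 := by
          rw [← sub_eq_zero] at hfix
          rw [← hfix]; abel
        obtain ⟨-, hi0, -⟩ := hind 0 i 0 (by rw [zero_smul, zero_smul, hi]; simp)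
        refine ⟨j.val, k.val, ?_⟩
        have : (⟨v, hvE⟩ : En) = z ^ j.val * c ^ k.val := hinj (by
          rw [he, hi0, zero_smul, zero_add, d.D.proj_mul, d.D.proj_pow, d.D.proj_pow, ZMod.natCast_zmod_val,
            ZMod.natCast_zmod_val])
        exact congrArg Subtype.val this)
      (fun j k j' k' h => by
        have h' : z ^ j * c ^ k = z ^ j' * c ^ k' := Subtype.ext h
        have h'' := congrArg d.D.proj h'
        rw [d.D.proj_mul, d.D.proj_mul, d.D.proj_pow, d.D.proj_pow, d.D.proj_pow, d.D.proj_pow] at h''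
        obtain ⟨-, h1, h2⟩ := hind 0 ((j : ZMod p) - j') ((k : ZMod p) - k') (by
          rw [zero_smul, zero_add, sub_smul, sub_smul, sub_add_sub_comm, h'', sub_self])
        exact ⟨sub_eq_zero.1 h1, sub_eq_zero.1 h2⟩)
      hτA hτz hτc l1
    have hcne : d.D.proj c ≠ 0 := fun h => by
      obtain ⟨-, -, h1⟩ := hind 0 0 1 (by simp [h])
      exact one_ne_zero h1
    have hcnc : (c : S) ∉ _root_.commutator S := fun h => by
      obtain ⟨i, hi⟩ := mem_powers_iff_mem_zpowers.2 (hcomm h)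
      have : c = z ^ i := Subtype.ext hi.symm
      obtain ⟨-, -, h1⟩ := hind 0 (-(i : ZMod p)) 1 (by rw [this, d.D.proj_pow]; simp)
      exact one_ne_zero h1
    refine ⟨c, hcne, hvc, huniq, ⟨hcc, hcnc, hcp, hinv⟩, huc, fun e he => ?_⟩
    exact hun e he.1 (fun h => he.2.1 (hceq.ge h)) he.2.2.2
  obtain ⟨g₀, hg₀⟩ := exists_conj_not_mem_zpowers R hu hu1
  obtain ⟨C, hC0, hCv, hCuniq, hCgood, hCu, hCall⟩ := hpair g₀ hg₀
  have hfixall : ∀ g : G, R.ρ (g * d.D.χ x * g⁻¹) (d.D.proj C) = d.D.proj C := by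
    intro g
    by_cases hg : g * d.D.χ x * g⁻¹ ∈ Subgroup.zpowers (d.D.χ x)
    · obtain ⟨i, hi⟩ := mem_powers_iff_mem_zpowers.2 hg
      rw [← hi]
      clear hi
      simp only
      induction i with
      | zero => rw [pow_zero, map_one, Module.End.one_apply]
      | succ i ih => rw [pow_succ, map_mul, Module.End.mul_apply, hCu, ih]
    · obtain ⟨C', -, hC'v, -, -, -, hC'all⟩ := hpair g hg
      obtain ⟨i, hi⟩ := mem_powers_iff_mem_zpowers.2 (hC'all _ hCgood)
      have : C = C' ^ i := Subtype.ext hi.symm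
      rw [this, d.D.proj_pow, map_smul, hC'v]
  refine ⟨C, C.2, hCgood, fun α hα => ?_, hCall⟩
  have hfixim : ∀ h v : G, (∃ g, v = g * d.D.χ x * g⁻¹) → R.ρ v (R.ρ h (d.D.proj C)) = R.ρ h (d.D.proj C) := by
    rintro h v ⟨g, rfl⟩
    have h1 := congrArg (R.ρ h) (hfixall (h⁻¹ * g))
    rw [← Module.End.mul_apply, ← map_mul] at h1
    rw [show g * d.D.χ x * g⁻¹ = h * (h⁻¹ * g * d.D.χ x * (h⁻¹ * g)⁻¹) * h⁻¹ by group, map_mul,
      Module.End.mul_apply, Rep.inv_apply_self]
    exact h1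
  obtain ⟨k, hk⟩ := hCuniq _ (hfixim (d.q ⟨α, hα⟩) _ ⟨1, by group⟩) (hfixim _ _ ⟨g₀, rfl⟩)
  have hCE : ((C : S) : Ω) ∈ E := C.2
  let C'' : En := ⟨⟨autFn α ((C : S) : Ω), d.le (autFn_mem α hCE)⟩, autFn_mem α hCE⟩
  have h := d.q_act ⟨α, hα⟩ C C'' (autFn_apply α hCE).symm
  have e : C'' = C ^ k.val := hinj (by rw [← h, hk, d.D.proj_pow, ZMod.natCast_zmod_val])
  have e' : autFn α ((C : S) : Ω) = ((C : S) : Ω) ^ k.val := congrArg (fun v : En => ((v : S) : Ω)) e
  rw [e']
  exact pow_mem (Subgroup.mem_zpowers _) _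

end Cfsg.Agent.SectionalThree
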