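import Cfsg.Agent.Lib.SectionalThree.TwoEss
import Cfsg.Agent.Lib.SectionalThree.Regular
import Cfsg.Agent.Lib.SectionalThree.Transvection
import Cfsg.Agent.Lib.OrderFive.Exists
import Cfsg.Agent.Lib.Fusion.Normal

/-!
# Sectional rank three: a pearl exists

`exists_pearl` : a saturated system with trivial core over a `p`-group of sectional rank three, `p ≥ 5`,
has an essential subgroup that is elementary abelian of order `p ^ 2` or extraspecial of order `p ^ 3` and
exponent `p`. Otherwise a nontrivial subgroup would be normal in the system.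
-/

set_option autoImplicit false
set_option linter.unusedSectionVars false
set_option linter.style.haveILetI false
set_option maxHeartbeats 1000000

namespace Cfsg.Agent.SectionalThree

open Cfsg Cfsg.FusionSystem Cfsg.Agent.Fusion RankThreeEss
open scoped commutatorElement

universe u

variable {p : ℕ} [hp : Fact p.Prime] {Ω : Type u} [Group Ω] {S : Subgroup Ω} [Finite S] {F : FusionSystem S}

/-- The Frattini quotient of an essential subgroup has order `p ^ 2` or `p ^ 3`. -/
theorem index_cases (hS : IsPGroup p S) (hsr : Cfsg.SectionalPRankLE p 3 S) {E : Subgroup Ω}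
    (hE : F.IsEssential p E) (hF : F.IsSaturated p) :
    (frattini E).index = p ^ 2 ∨ (frattini E).index = p ^ 3 := by
  have hES : E ≤ S := hE.1.1
  haveI := finite_mulAut (S := S) hES
  haveI := finite_of_le (S := S) hES
  have hEp : IsPGroup p E := hS.to_le hES
  have hle : (frattini E).index ≤ p ^ 3 := by
    have h := card_range_le (sectional_of_le hsr hES) (U := (⊤ : Subgroup E))
      ((QuotientGroup.mk' (frattini E)).comp (⊤ : Subgroup E).subtype)
      (fun a b => by
        refine commutatorElement_eq_one_iff_mul_comm.1 ?_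
        rw [← map_commutatorElement]
        exact (QuotientGroup.eq_one_iff _).2 (PGroup.commutatorElement_mem_frattini hEp _ _))
      (fun a => by rw [← map_pow]; exact (QuotientGroup.eq_one_iff _).2 (PGroup.pow_mem_frattini hEp _))
    rwa [MonoidHom.range_comp, Subgroup.range_subtype,
      Subgroup.map_top_of_surjective _ (QuotientGroup.mk'_surjective _), Subgroup.card_top,
      ← Subgroup.index_eq_card] at h
  obtain ⟨k, hk⟩ := (IsPGroup.iff_card.1 (hEp.to_quotient (frattini E)))
  rw [← Subgroup.index_eq_card] at hk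
  rw [hk] at hle ⊢
  have hk3 : k ≤ 3 := (Nat.pow_le_pow_iff_right hp.out.one_lt).1 hle
  by_contra hcon
  push Not at hcon
  have hk1 : k ≤ 1 := by
    rcases (show k ≤ 1 ∨ k = 2 ∨ k = 3 by omega) with h | rfl | rfl
    exacts [h, absurd rfl hcon.1, absurd rfl hcon.2]
  let Act : Resist.Act p F E (E ⧸ frattini E) :=
    { res := RankTwo.quotientAut (frattini E)
      faithful := fun α _ hc hα => eq_one_of_frattini hEp hc hα }
  obtain ⟨a, ha, hai, j, hj⟩ := (EssentialSmall.setting_of_essential hS hF hE).outer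
  refine hai (Act.ker_le_inn hS hE ha (MulEquiv.ext fun v => ?_))
  obtain ⟨v, rfl⟩ := QuotientGroup.mk_surjective v
  refine (QuotientGroup.eq.2 ?_).symm
  refine EssentialSmall.mul_apply_mem_of_card_le hEp le_top ?_ hj
    (fun w hw => mem_iff_of_characteristic inferInstance a hw) (fun w _ => Subgroup.mem_top _)
    (Subgroup.mem_top v)
  rw [Subgroup.card_top, ← (frattini E).card_mul_index, hk, mul_comm p]
  refine Nat.mul_le_mul le_rfl ((Nat.pow_le_pow_right hp.out.pos hk1).trans (pow_one p).le)

theorem frattini_le_of_index {P : Type*} [Group P] [Finite P] (hP : IsPGroup p P) {M : Subgroup P} [M.Normal]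
    (hM : M.index = p) : frattini P ≤ M :=
  PGroup.frattini_le_of_quotient_elementary (p := p) (PGroup.commutator_le_of_index_eq hM)
    fun v => hM ▸ M.pow_index_mem v

theorem frattini_map_subtype_le {P : Type*} [Group P] [Finite P] (hP : IsPGroup p P) (M : Subgroup P) :
    (frattini M).map M.subtype ≤ frattini P := by
  rw [Subgroup.map_le_iff_le_comap]
  exact PGroup.frattini_le_of_quotient_elementary (p := p) (by
    rw [_root_.commutator_def, Subgroup.commutator_le]
    exact fun u _ v _ => PGroup.commutatorElement_mem_frattini hP (u : P) v)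
    fun u => PGroup.pow_mem_frattini hP (u : P)

/-- Abelian subgroups of index `p`, the first meeting the centre in at most `p` elements. -/
theorem eq_of_abelian {P : Type*} [Group P] [Finite P] (hP : IsPGroup p P) (hcard : Nat.card P = p ^ 4)
    {A B : Subgroup P} (hA : Nat.card A = p ^ 3) (hB : Nat.card B = p ^ 3)
    (hAc : ∀ u ∈ A, ∀ v ∈ A, Commute u v) (hBc : ∀ u ∈ B, ∀ v ∈ B, Commute u v)
    (hsmall : Nat.card (A ⊓ Subgroup.center P : Subgroup P) ≤ p) : B = A := by
  by_contra hne
  have hp1 := hp.out.one_lt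
  have hlt : A < A ⊔ B := lt_of_le_of_ne le_sup_left fun h => hne
    (Subgroup.eq_of_le_of_card_ge (h ▸ le_sup_right) (hA.trans hB.symm).le)
  have htop : A ⊔ B = ⊤ := PGroup.eq_of_le_of_card_le le_top (by
    have h := PGroup.mul_card_le_of_lt hP hlt
    rw [hA, ← pow_succ'] at h
    rwa [Subgroup.card_top, hcard])
  have hle : A ⊓ B ≤ A ⊓ Subgroup.center P := fun v hv => ⟨hv.1, Subgroup.mem_center_iff.2 fun g => by
    have hcl : A ⊔ B ≤ Subgroup.centralizer {v} := sup_le
      (fun u hu => Subgroup.mem_centralizer_singleton_iff.2 (hAc u hu v hv.1))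
      (fun u hu => Subgroup.mem_centralizer_singleton_iff.2 (hBc u hu v hv.2))
    exact Subgroup.mem_centralizer_singleton_iff.1 (hcl (htop.ge (Subgroup.mem_top g)))⟩
  have hidx : ∀ {M : Subgroup P}, Nat.card M = p ^ 3 → M.index = p := fun {M} hM => by
    have h := M.card_mul_index
    rw [hM, hcard, pow_succ p 3] at h
    exact Nat.eq_of_mul_eq_mul_left (pow_pos hp.out.pos 3) h
  have hi : (A ⊓ B).index ≤ p * p := (Subgroup.index_inf_le (H := A) (K := B)).trans (by rw [hidx hA, hidx hB])
  have h2 : p ^ 2 ≤ Nat.card (A ⊓ B : Subgroup P) := by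
    refine Nat.le_of_mul_le_mul_right ?_ (Nat.mul_pos hp.out.pos hp.out.pos)
    calc p ^ 2 * (p * p) = Nat.card P := by rw [hcard]; ring
      _ = Nat.card (A ⊓ B : Subgroup P) * (A ⊓ B).index := ((A ⊓ B).card_mul_index).symm
      _ ≤ _ := Nat.mul_le_mul le_rfl hi
  have := (h2.trans (Subgroup.card_le_of_le hle)).trans hsmall
  exact absurd this (not_le.2 (by simpa using Nat.pow_lt_pow_right hp1 (show 1 < 2 by norm_num)))

variable (five : 5 ≤ p) (hS : IsPGroup p S) (hsr : Cfsg.SectionalPRankLE p 3 S) (hF : F.IsSaturated p)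
include five hS hsr hF

/-- What is used of an essential subgroup with three generators. -/
theorem ess3_facts {E : Subgroup Ω} (hE : F.IsEssential p E) (hrk : (frattini E).index = p ^ 3) :
    (E.subgroupOf S).Normal ∧ (E.subgroupOf S).index = p ∧ (frattini (E.subgroupOf S)).index = p ^ 3 ∧
      (((frattini S).index ≤ p ^ 2 ∧
          (Nat.card (E.subgroupOf S) = p ^ 3 ∨
            ∀ e : E.subgroupOf S, e ^ p = 1 → e ∈ frattini (E.subgroupOf S)) ∧
          (Nat.card (E.subgroupOf S) = p ^ 3 →
            Nat.card (E.subgroupOf S ⊓ Subgroup.center S : Subgroup S) ≤ p)) ∨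
        (p ^ 2 < (frattini S).index ∧ (phiS S E).Characteristic ∧ phiS S E ≤ frattini S ∧
          (∀ u v g : S, ⁅⁅u, v⁆, g⁆ ∈ phiS S E) ∧ (∀ u : S, u ^ p ∈ phiS S E) ∧
          (∃ e₁ e₂ e₃ : S, Subgroup.closure {e₁, e₂, e₃} = ⊤) ∧
          (phiS S E = ⊥ → ∃ c : S, c ∈ E.subgroupOf S ∧ IsGood p F c ∧
            (∀ α ∈ F.autGroup E, autFn α (c : Ω) ∈ Subgroup.zpowers (c : Ω)) ∧
            ∀ e, IsGood p F e → e ∈ Subgroup.zpowers c))) := by
  obtain ⟨hn, G, _, _, W, _, _, ⟨d⟩⟩ := exists_ess3 five hS hsr hF hE hrk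
  haveI := hn
  obtain ⟨y, hy, hyE⟩ := SetLike.exists_of_lt (Resist.lt_of_essential hS hF hE)
  set x : S := ⟨y, hy⟩
  have hx : x ∉ E.subgroupOf S := hyE
  have hidx : (E.subgroupOf S).index = p := by
    have hker : d.D.χ.ker = E.subgroupOf S := by
      ext v
      exact d.D.χ_eq_one v
    rw [← hker, Subgroup.index_ker, d.range_card]
  refine ⟨hn, hidx, d.D.index_frattini, ?_⟩
  by_cases hsq : d.D.R.nil (d.D.χ x) * d.D.R.nil (d.D.χ x) = 0
  · obtain ⟨h1, h2, h3, h4, h5, h6⟩ := trans_facts d five hS hsr hF hE hx hsq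
    exact Or.inr ⟨h5, h1, h2, h3, h4, h6, trans_line d five hS hF hE hx hsq⟩
  · exact Or.inl (regular_facts d.D five hS hsr (d.hgen hx) hsq)

theorem exists_pearl (hsr2 : ¬ Cfsg.SectionalPRankLE p 2 S) (hcore : F.core = ⊥) :
    ∃ E : Subgroup Ω, F.IsEssential p E ∧ IsPearl p E := by
  by_contra hnone
  push Not at hnone
  have hp1 := hp.out.one_lt
  have hS1 : S ≠ ⊥ := fun h => hsr2 (by
    intro H N _ A _ _
    have : Subsingleton S := ⟨fun a b => Subtype.ext (by
      rw [Subgroup.mem_bot.1 (h ▸ a.2 : (a : Ω) ∈ (⊥ : Subgroup Ω)),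
        Subgroup.mem_bot.1 (h ▸ b.2 : (b : Ω) ∈ (⊥ : Subgroup Ω))])⟩
    have : Subsingleton (H ⧸ N) := (QuotientGroup.mk_surjective).subsingleton
    rw [Nat.card_of_subsingleton (1 : A)]
    exact Nat.one_le_pow _ _ hp.out.pos)
  obtain ⟨E₀, hE₀⟩ := OrderFive.exists_essential hS hF hS1 hcore
  have hfin : ∀ {Q : Subgroup Ω}, Q ≤ S → Q ≠ ⊥ →
      (∀ R : Subgroup Ω, (R = S ∨ F.IsEssential p R) →
        Q ≤ R ∧ ∀ α ∈ F.autGroup R, ∀ q ∈ Q, autFn α q ∈ Q) → False := fun hQ hne h =>
    hne (FusionAbelianIndex.eq_bot_of_normal hcore (isNormal_of_essentials hS hF hQ h))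
  -- a subgroup of `S` invariant under `Aut(S)`
  have hSinv : ∀ {T : Subgroup S}, T.Characteristic → ∀ α ∈ F.autGroup S, ∀ q ∈ T.map S.subtype,
      autFn α q ∈ T.map S.subtype := by
    rintro T hT α - _ ⟨q, hq, rfl⟩
    exact ⟨α q, mem_iff_of_characteristic hT α hq, (autFn_apply α q.2).symm⟩
  by_cases h2 : ∃ E, F.IsEssential p E ∧ (frattini E).index = p ^ 2
  · obtain ⟨E, hE, hrk⟩ := h2
    obtain ⟨hsub, hidxS, hcard, hcardS, Z, hZ, hZc, hZe⟩ := twoEss five hS hsr hF hE hrk (hnone E hE)
    have hES : E ≤ S := hE.1.1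
    have huniq : ∀ R, F.IsEssential p R → R = E := by
      intro R hR
      rcases index_cases hS hsr hR hF with hr | hr
      · obtain ⟨hsubR, -, -, -, -⟩ := twoEss five hS hsr hF hR hr (hnone R hR)
        have h := hsubR.trans hsub.symm
        rwa [Subgroup.subgroupOf_inj, inf_eq_left.2 hR.1.1, inf_eq_left.2 hES] at h
      · exfalso
        obtain ⟨hn, hi, hfi, ⟨-, hdich, -⟩ | ⟨hgt, -⟩⟩ := ess3_facts five hS hsr hF hR hr
        swap
        · exact absurd hidxS (not_le.2 hgt)
        haveI := hn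
        set Rn := R.subgroupOf S with hRn
        have hcR : Nat.card Rn = p ^ 5 := by
          have h := Rn.card_mul_index
          rw [hi, hcardS, pow_succ p 5] at h
          exact Nat.eq_of_mul_eq_mul_right hp.out.pos h
        rcases hdich with h3 | hin
        · exact absurd (Nat.pow_right_injective hp.out.two_le (hcR.symm.trans h3)) (by norm_num)
        have hZR : Z ≤ (frattini Rn).map Rn.subtype := fun z hz =>
          ⟨⟨z, frattini_le_of_index hS hi (hZ hz)⟩, hin _ (Subtype.ext (hZe z hz)), rfl⟩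
        have h5 := Subgroup.card_le_of_le hZR
        rw [hZc, Subgroup.card_map_of_injective Rn.subtype_injective] at h5
        have h6 := (frattini Rn).card_mul_index
        rw [hfi, hcR] at h6
        have h7 : p ^ 3 * p ^ 3 ≤ p ^ 5 := h6 ▸ Nat.mul_le_mul h5 le_rfl
        rw [← pow_add] at h7
        exact absurd ((Nat.pow_le_pow_iff_right hp1).1 h7) (by norm_num)
    refine hfin hES (fun h => ?_) fun R hR => ?_
    · rw [h, Subgroup.card_bot] at hcard
      exact absurd hcard.symm (Nat.one_lt_pow (by norm_num) hp1).ne'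
    have hEeq : (E.subgroupOf S).map S.subtype = E := by
      rw [Subgroup.subgroupOf_map_subtype, inf_eq_left.2 hES]
    rcases hR with rfl | hR
    · refine ⟨hES, fun α hα q hq => ?_⟩
      rw [← hEeq] at hq ⊢
      exact hSinv (hsub ▸ centralizer_lcs_characteristic 3) α hα q hq
    · rw [huniq R hR]
      exact ⟨le_rfl, fun α _ q hq => autFn_mem α hq⟩
  push Not at h2
  have h3 : ∀ E, F.IsEssential p E → (frattini E).index = p ^ 3 := fun E hE =>
    (index_cases hS hsr hE hF).resolve_left (h2 E hE)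
  obtain ⟨hn₀, hi₀, hf₀, hcase₀⟩ := ess3_facts five hS hsr hF hE₀ (h3 E₀ hE₀)
  haveI := hn₀
  rcases hcase₀ with ⟨hle₀, hd₀, hc₀⟩ | ⟨hgt₀, hKc₀, hKle₀, hKcen₀, hKpow₀, hgens₀, hline₀⟩
  · -- all regular
    have hreg : ∀ E, F.IsEssential p E → (E.subgroupOf S).index = p ∧
        (frattini (E.subgroupOf S)).index = p ^ 3 ∧
        (Nat.card (E.subgroupOf S) = p ^ 3 ∨
          ∀ e : E.subgroupOf S, e ^ p = 1 → e ∈ frattini (E.subgroupOf S)) ∧
        (Nat.card (E.subgroupOf S) = p ^ 3 →
          Nat.card (E.subgroupOf S ⊓ Subgroup.center S : Subgroup S) ≤ p) := fun E hE => by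
      obtain ⟨-, hi, hf, ⟨-, hd, hc⟩ | ⟨hgt, -⟩⟩ := ess3_facts five hS hsr hF hE (h3 E hE)
      · exact ⟨hi, hf, hd, hc⟩
      · exact absurd hle₀ (not_le.2 hgt)
    by_cases helem : ∃ E, F.IsEssential p E ∧ Nat.card (E.subgroupOf S) = p ^ 3
    · obtain ⟨E, hE, hE3⟩ := helem
      obtain ⟨hi, hf, -, hc⟩ := hreg E hE
      set En := E.subgroupOf S with hEn
      have hcardS : Nat.card S = p ^ 4 := by rw [← En.card_mul_index, hE3, hi, ← pow_succ]
      have hab : ∀ {R : Subgroup Ω}, F.IsEssential p R → Nat.card (R.subgroupOf S) = p ^ 3 ∧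
          ∀ u ∈ R.subgroupOf S, ∀ v ∈ R.subgroupOf S, Commute u v := fun {R} hR => by
        obtain ⟨hiR, hfR, -, -⟩ := hreg R hR
        have hc3 : Nat.card (R.subgroupOf S) = p ^ 3 := by
          have h := (R.subgroupOf S).card_mul_index
          rw [hiR, hcardS, pow_succ p 3] at h
          exact Nat.eq_of_mul_eq_mul_right hp.out.pos h
        refine ⟨hc3, fun u hu v hv => ?_⟩
        have hbot : frattini (R.subgroupOf S) = ⊥ := by
          have h := (frattini (R.subgroupOf S)).card_mul_index
          rw [hfR, hc3] at h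
          exact Subgroup.eq_bot_of_card_eq _ (Nat.eq_of_mul_eq_mul_right (pow_pos hp.out.pos 3)
            (h.trans (one_mul _).symm))
        have h := PGroup.commutatorElement_mem_frattini (hS.to_subgroup (R.subgroupOf S)) ⟨u, hu⟩ ⟨v, hv⟩
        rw [hbot, Subgroup.mem_bot, commutatorElement_eq_one_iff_mul_comm] at h
        exact congrArg Subtype.val h
      have huniq : ∀ M : Subgroup S, Nat.card M = p ^ 3 → (∀ u ∈ M, ∀ v ∈ M, Commute u v) → M = En :=
        fun M hM hMc => eq_of_abelian hS hcardS hE3 hM (hab hE).2 hMc (hc hE3)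
      refine hfin hE.1.1 (fun h => ?_) fun R hR => ?_
      · rw [hEn, h, Subgroup.bot_subgroupOf, Subgroup.card_bot] at hE3
        exact absurd hE3.symm (Nat.one_lt_pow (by norm_num) hp1).ne'
      rcases hR with rfl | hR
      · refine ⟨hE.1.1, fun α hα q hq => ?_⟩
        have heq := huniq (En.map α.toMonoidHom) (by rw [Subgroup.card_map_of_injective α.injective, hE3]) (by
          rintro _ ⟨u, hu, rfl⟩ _ ⟨v, hv, rfl⟩
          exact ((hab hE).2 u hu v hv).map α)
        have h : α ⟨q, hE.1.1 hq⟩ ∈ En := heq ▸ Subgroup.mem_map_of_mem α.toMonoidHom hq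
        rw [autFn_apply α (hE.1.1 hq)]
        exact h
      · have heq := huniq _ (hab hR).1 (hab hR).2
        rw [hEn, Subgroup.subgroupOf_inj, inf_eq_left.2 hR.1.1, inf_eq_left.2 hE.1.1] at heq
        rw [heq]
        exact ⟨le_rfl, fun α _ q hq => autFn_mem α hq⟩
    push Not at helem
    -- the subgroup generated by the elements of order `p` of `Φ(S)`
    set T := Subgroup.closure {v : S | v ∈ frattini S ∧ v ^ p = 1} with hT
    refine hfin (Q := T.map S.subtype) (Subgroup.map_subtype_le T) (fun h => ?_) fun R hR => ?_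
    · rw [Subgroup.map_eq_bot_iff_of_injective _ S.subtype_injective, hT, Subgroup.closure_eq_bot_iff] at h
      have hne : frattini S ≠ ⊥ := fun hb => by
        rw [hb, Subgroup.index_bot, ← (E₀.subgroupOf S).card_mul_index, hi₀,
          ← (frattini (E₀.subgroupOf S)).card_mul_index, hf₀] at hle₀
        have h1 : 1 * p ^ 3 * p ≤ p ^ 2 :=
          le_trans (Nat.mul_le_mul (Nat.mul_le_mul Nat.card_pos le_rfl) le_rfl) hle₀
        rw [one_mul, ← pow_succ] at h1
        exact absurd ((Nat.pow_le_pow_iff_right hp1).1 h1) (by norm_num)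
      obtain ⟨z, hz, -, hzo⟩ := PGroup.exists_central_order_p hS hne
      have h1 : z = 1 := h ⟨hz, by rw [← hzo, pow_orderOf_eq_one]⟩
      rw [h1, orderOf_one] at hzo
      exact hp.out.ne_one hzo.symm
    rcases hR with rfl | hR
    · refine ⟨Subgroup.map_subtype_le T, fun α hα q hq => hSinv (characteristic_of_mem fun β v hv => ?_) α hα q hq⟩
      have hle : T ≤ T.comap β.toMonoidHom := (Subgroup.closure_le _).2 fun w hw =>
        Subgroup.mem_comap.2 (Subgroup.subset_closure ⟨mem_iff_of_characteristic inferInstance β hw.1,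
          by exact (map_pow β w p).symm.trans (by rw [hw.2, map_one])⟩)
      exact hle hv
    · obtain ⟨hn, hi, -⟩ := ess3_facts five hS hsr hF hR (h3 R hR)
      haveI := hn
      obtain ⟨-, -, hd, -⟩ := hreg R hR
      have hin := hd.resolve_left (helem R hR)
      have hTR : T ≤ R.subgroupOf S := (Subgroup.closure_le _).2 fun v hv => frattini_le_of_index hS hi hv.1
      have hgen : ∀ q : Ω, ∀ hq : q ∈ R, q ^ p = 1 → q ∈ T.map S.subtype := fun q hq hqp =>
        ⟨⟨q, hR.1.1 hq⟩, Subgroup.subset_closure ⟨frattini_map_subtype_le hS (R.subgroupOf S)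
          ⟨⟨⟨q, hR.1.1 hq⟩, hq⟩, hin _ (Subtype.ext (Subtype.ext hqp)), rfl⟩, Subtype.ext hqp⟩, rfl⟩
      refine ⟨fun q hq => ?_, fun α hα q hq => ?_⟩
      · obtain ⟨v, hv, rfl⟩ := hq
        exact hTR hv
      obtain ⟨v, hv, rfl⟩ := hq
      have hm := (isIso_autFn hR.1.1 hα).1
      have key : ∀ w : S, w ∈ T → autFn α (w : Ω) ∈ T.map S.subtype := by
        intro w hw
        have hw' := hw
        induction hw using Subgroup.closure_induction with
        | mem w hw =>
          have hwR : (w : Ω) ∈ R := hTR (Subgroup.subset_closure hw)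
          refine hgen _ (autFn_mem α hwR) ?_
          rw [autFn_apply α hwR, ← Subgroup.coe_pow, ← map_pow,
            show (⟨(w : Ω), hwR⟩ : R) ^ p = 1 from Subtype.ext (show (w : Ω) ^ p = 1 from congrArg Subtype.val hw.2),
            map_one]
          rfl
        | one => rw [Subgroup.coe_one, hm.map_one]; exact one_mem _
        | mul w w' hw1 hw2 ih ih' =>
          have hwR : (w : Ω) ∈ R := hTR hw1
          have hwR' : (w' : Ω) ∈ R := hTR hw2
          rw [Subgroup.coe_mul, hm.map_mul hwR hwR']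
          exact mul_mem (ih hw1) (ih' hw2)
        | inv w hw1 ih =>
          have hwR : (w : Ω) ∈ R := hTR hw1
          rw [Subgroup.coe_inv, autFn_apply α (inv_mem hwR),
            show (⟨(w : Ω)⁻¹, inv_mem hwR⟩ : R) = (⟨(w : Ω), hwR⟩ : R)⁻¹ from rfl, map_inv, Subgroup.coe_inv,
            ← autFn_apply α hwR]
          exact inv_mem (ih hw1)
      exact key v hv
  · -- all transvections
    have htr : ∀ E, F.IsEssential p E → (E.subgroupOf S).index = p ∧
        (frattini (E.subgroupOf S)).index = p ^ 3 ∧ phiS S E = phiS S E₀ ∧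
        (phiS S E = ⊥ → ∃ c : S, c ∈ E.subgroupOf S ∧ IsGood p F c ∧
            (∀ α ∈ F.autGroup E, autFn α (c : Ω) ∈ Subgroup.zpowers (c : Ω)) ∧
            ∀ e, IsGood p F e → e ∈ Subgroup.zpowers c) := by
      intro E hE
      obtain ⟨-, hi, hf, ⟨hle, -⟩ | ⟨-, hKc, hKle, hKcen, hKpow, -, hline⟩⟩ := ess3_facts five hS hsr hF hE (h3 E hE)
      · exact absurd hle (not_le.2 hgt₀)
      refine ⟨hi, hf, ?_, hline⟩
      haveI := hKc
      haveI := hKc₀
      set K := phiS S E ⊓ phiS S E₀ with hK
      haveI hKn : K.Normal := Subgroup.normal_inf_normal _ _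
      let π := QuotientGroup.mk' K
      have hπ : Function.Surjective π := QuotientGroup.mk'_surjective K
      have hπ1 : ∀ v : S, π v = 1 ↔ v ∈ K := fun v => QuotientGroup.eq_one_iff v
      have hexp : ∀ q : S ⧸ K, q ^ p = 1 := fun q => by
        obtain ⟨v, rfl⟩ := hπ q
        rw [← map_pow, hπ1]
        exact ⟨hKpow v, hKpow₀ v⟩
      have hcen : ∀ u v : S ⧸ K, ⁅u, v⁆ ∈ Subgroup.center (S ⧸ K) := fun u v => by
        obtain ⟨u, rfl⟩ := hπ u
        obtain ⟨v, rfl⟩ := hπ v
        refine Subgroup.mem_center_iff.2 fun g => ?_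
        obtain ⟨g, rfl⟩ := hπ g
        refine (commutatorElement_eq_one_iff_mul_comm.1 ?_).symm
        rw [← map_commutatorElement, ← map_commutatorElement, hπ1]
        exact ⟨hKcen u v g, hKcen₀ u v g⟩
      have hKfr : K ≤ frattini S := inf_le_left.trans hKle
      have hidxP : (frattini (S ⧸ K)).index = (frattini S).index := by
        rw [← PGroup.frattini_map hS hπ, Subgroup.index_map_eq _ hπ ((QuotientGroup.ker_mk' K).le.trans hKfr)]
      obtain ⟨k, hk⟩ : ∃ k, (frattini S).index = p ^ k := by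
        obtain ⟨k, hk⟩ := IsPGroup.iff_card.1 (hS.to_quotient (frattini S))
        exact ⟨k, by rw [Subgroup.index_eq_card, hk]⟩
      have hk3 : p ^ 3 ≤ (frattini S).index := by
        rw [hk] at hgt₀ ⊢
        exact Nat.pow_le_pow_right hp.out.pos ((Nat.pow_lt_pow_iff_right hp1).1 hgt₀)
      have hidx : p ^ 3 ≤ (_root_.commutator (S ⧸ K)).index := by
        refine le_trans (hidxP ▸ hk3) (Nat.le_of_dvd (Nat.pos_of_ne_zero Subgroup.index_ne_zero_of_finite)
          (Subgroup.index_dvd_of_le (PGroup.commutator_le_frattini (hS.to_quotient K))))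
      obtain ⟨e₁, e₂, e₃, hgen⟩ := hgens₀
      have hsmall := card_commutator_le hexp hcen hidx hsr π hπ (e₁ := π e₁) (e₂ := π e₂) (e₃ := π e₃) (by
        have h1 := congrArg (Subgroup.map π) hgen
        rw [MonoidHom.map_closure, Set.image_insert_eq, Set.image_pair, Subgroup.map_top_of_surjective _ hπ] at h1
        exact h1)
      have hle3 : (frattini S).index ≤ p ^ 3 := by
        have h := card_range_le hsr (U := (⊤ : Subgroup S))
          ((QuotientGroup.mk' (frattini S)).comp (⊤ : Subgroup S).subtype)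
          (fun a b => by
            refine commutatorElement_eq_one_iff_mul_comm.1 ?_
            rw [← map_commutatorElement]
            exact (QuotientGroup.eq_one_iff _).2 (PGroup.commutatorElement_mem_frattini hS _ _))
          (fun a => by rw [← map_pow]; exact (QuotientGroup.eq_one_iff _).2 (PGroup.pow_mem_frattini hS _))
        rwa [MonoidHom.range_comp, Subgroup.range_subtype,
          Subgroup.map_top_of_surjective _ (QuotientGroup.mk'_surjective _), Subgroup.card_top,
          ← Subgroup.index_eq_card] at h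
      have hKidx : K.index ≤ p ^ 4 := by
        rw [Subgroup.index_eq_card, ← (frattini (S ⧸ K)).card_mul_index, hidxP, pow_succ' p 3]
        refine Nat.mul_le_mul ?_ hle3
        refine (Subgroup.card_le_of_le ?_).trans hsmall
        exact PGroup.frattini_le_of_quotient_elementary (p := p) le_rfl fun q => by rw [hexp q]; exact one_mem _
      have hphi : ∀ {M : Subgroup Ω}, (M.subgroupOf S).index = p → (frattini (M.subgroupOf S)).index = p ^ 3 →
          (phiS S M).index = p ^ 4 := fun {M} h1 h2 => by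
        rw [phiS, Subgroup.index_map_subtype, h1, h2, ← pow_succ]
      have heq : ∀ {M : Subgroup S}, K ≤ M → M.index = p ^ 4 → K = M := fun {M} hKM hM => by
        refine PGroup.eq_of_le_of_card_le hKM ?_
        have h1 := M.card_mul_index
        rw [← K.card_mul_index, hM] at h1
        refine Nat.le_of_mul_le_mul_right ?_ (pow_pos hp.out.pos 4)
        exact h1.le.trans (Nat.mul_le_mul le_rfl hKidx)
      rw [← heq (M := phiS S E) inf_le_left (hphi hi hf), heq (M := phiS S E₀) inf_le_right (hphi hi₀ hf₀)]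
    by_cases hK : phiS S E₀ = ⊥
    · obtain ⟨c, hcE, hcgood, -, -⟩ := hline₀ hK
      have hcne : (c : Ω) ≠ 1 := fun h => hcgood.2.1 (by rw [show c = 1 from Subtype.ext h]; exact one_mem _)
      refine hfin (Q := Subgroup.zpowers (c : Ω)) (Subgroup.zpowers_le.2 c.2)
        (by simpa using hcne) fun R hR => ?_
      rcases hR with rfl | hR
      · refine ⟨Subgroup.zpowers_le.2 c.2, fun α hα q hq => ?_⟩
        obtain ⟨i, rfl⟩ := Subgroup.mem_zpowers_iff.1 hq
        have h := zpow_mem (hcgood.2.2.2 α hα) i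
        rw [autFn_apply α (zpow_mem c.2 i)]
        have e : (⟨(c : Ω) ^ i, zpow_mem c.2 i⟩ : R) = c ^ i := Subtype.ext (by simp)
        rw [e, map_zpow]
        obtain ⟨j, hj⟩ := Subgroup.mem_zpowers_iff.1 h
        exact ⟨j, by rw [← hj]; simp⟩
      · obtain ⟨-, -, hKR, hlineR⟩ := htr R hR
        obtain ⟨c', hc'E, hc'good, hc'inv, hc'all⟩ := hlineR (hKR.trans hK)
        have hzc : Subgroup.zpowers c = Subgroup.zpowers c' := by
          refine Subgroup.eq_of_le_of_card_ge (Subgroup.zpowers_le.2 (hc'all c hcgood)) ?_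
          rw [Nat.card_zpowers, Nat.card_zpowers,
            orderOf_eq_prime hcgood.2.2.1 (fun h => hcne (congrArg Subtype.val h))]
          exact orderOf_le_of_pow_eq_one hp.out.pos hc'good.2.2.1
        have hzΩ : Subgroup.zpowers (c : Ω) = Subgroup.zpowers (c' : Ω) := by
          have := congrArg (Subgroup.map S.subtype) hzc
          rwa [MonoidHom.map_zpowers, MonoidHom.map_zpowers] at this
        rw [hzΩ]
        refine ⟨Subgroup.zpowers_le.2 hc'E, fun α hα q hq => ?_⟩
        obtain ⟨i, rfl⟩ := Subgroup.mem_zpowers_iff.1 hq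
        have h := zpow_mem (hc'inv α hα) i
        have hcR : (c' : Ω) ∈ R := hc'E
        rw [autFn_apply α hcR] at h
        rw [autFn_apply α (zpow_mem hcR i)]
        have e : (⟨(c' : Ω) ^ i, zpow_mem hcR i⟩ : R) = ⟨(c' : Ω), hcR⟩ ^ i := Subtype.ext (by simp)
        rw [e, map_zpow, Subgroup.coe_zpow]
        exact h
    · refine hfin (Q := (phiS S E₀).map S.subtype) (Subgroup.map_subtype_le _)
        (fun h => hK ((Subgroup.map_eq_bot_iff_of_injective _ S.subtype_injective).1 h)) fun R hR => ?_
      rcases hR with rfl | hR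
      · exact ⟨Subgroup.map_subtype_le _, fun α hα q hq => hSinv hKc₀ α hα q hq⟩
      · obtain ⟨-, -, hKR, -⟩ := htr R hR
        haveI := finite_of_le (S := S) hR.1.1
        let φ : R.subgroupOf S ≃* R := Subgroup.subgroupOfEquivOfLe hR.1.1
        have hmap : (phiS S E₀).map S.subtype = (frattini R).map R.subtype := by
          rw [← hKR, phiS, Subgroup.map_map,
            ← PGroup.frattini_map (f := φ.toMonoidHom) (hS.to_subgroup (R.subgroupOf S)) φ.surjective,
            Subgroup.map_map]
          rfl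
        rw [hmap]
        refine ⟨Subgroup.map_subtype_le _, ?_⟩
        rintro α - _ ⟨q, hq, rfl⟩
        exact ⟨α q, mem_iff_of_characteristic inferInstance α hq, (autFn_apply α q.2).symm⟩

end Cfsg.Agent.SectionalThree
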