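import Cfsg.Agent.Lib.RankThreeEss.Fusion
import Cfsg.Agent.Lib.SectionalThree.TwoEss

/-!
# Normal essential subgroups with three generators

* `exists_ess3` : the action on the Frattini quotient as a `Model`, with the map from the automorphism group;
* `exists_tau` : an automorphism whose class normalizes the image of `S` extends to `S`.
-/

set_option autoImplicit false
set_option linter.unusedSectionVars false
set_option linter.style.haveILetI false
set_option maxHeartbeats 1000000

namespace Cfsg.Agent.SectionalThree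

open Cfsg Cfsg.FusionSystem Cfsg.Agent.Fusion RankThreeEss

universe u

variable {p : ℕ} [hp : Fact p.Prime] {Ω : Type u} [Group Ω] {S : Subgroup Ω} [Finite S] {F : FusionSystem S}

/-- An element of `S` as an element of the normalizer of a subgroup normal in `S`. -/
def toN {E : Subgroup Ω} (hN : S ≤ Subgroup.normalizer (E : Set Ω)) (s : S) : normalizerIn S E :=
  ⟨s, s.2, hN s.2⟩

/-- The data of a normal essential subgroup with three generators. -/
structure Ess3 (F : FusionSystem S) (E : Subgroup Ω) [(E.subgroupOf S).Normal] (G : Type u) [Group G]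
    (W : Type u) [AddCommGroup W] [Module (ZMod p) W] where
  D : Model p S (E.subgroupOf S) G W
  le : E ≤ S
  norm : S ≤ Subgroup.normalizer (E : Set Ω)
  q : F.autGroup E →* G
  q_surj : Function.Surjective q
  q_ker : ∀ α : F.autGroup E, q α = 1 → (α : MulAut E) ∈ Cfsg.Inn E
  q_act : ∀ (α : F.autGroup E) (e e' : E.subgroupOf S),
    (((α : MulAut E) ⟨((e : S) : Ω), e.2⟩ : E) : Ω) = ((e' : S) : Ω) → D.R.ρ (q α) (D.proj e) = D.proj e'
  q_conj : ∀ (s : S) (h : normConj S E (toN norm s) ∈ F.autGroup E), q ⟨_, h⟩ = D.χ s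
  range_card : Nat.card D.χ.range = p

theorem exists_ess3_of_normal (three : 3 ≤ p) (hS : IsPGroup p S)
    (hF : F.IsSaturated p) {E : Subgroup Ω} (hE : F.IsEssential p E) (hrk : (frattini E).index = p ^ 3)
    (hnS : S ≤ Subgroup.normalizer (E : Set Ω)) :
    ∃ (_ : (E.subgroupOf S).Normal) (G : Type u) (_ : Group G) (_ : Finite G) (W : Type u)
      (_ : AddCommGroup W) (_ : Module (ZMod p) W), Nonempty (Ess3 (p := p) F E G W) := by
  have hES : E ≤ S := hE.1.1
  haveI := finite_mulAut (S := S) hES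
  haveI := finite_of_le (S := S) hES
  have hEp : IsPGroup p E := hS.to_le hES
  set En := E.subgroupOf S with hEn
  haveI hEnn : En.Normal := ⟨fun e he g =>
    show (g : Ω) * e * (g : Ω)⁻¹ ∈ E from normalizerIn_conj (toN hnS g).2 he⟩
  let φ : En ≃* E := Subgroup.subgroupOfEquivOfLe hES
  letI : CommGroup (E ⧸ frattini E) :=
    { (inferInstance : Group (E ⧸ frattini E)) with
      mul_comm := fun a b => QuotientGroup.induction_on a fun a => QuotientGroup.induction_on b fun b => by
        rw [← commutatorElement_eq_one_iff_mul_comm]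
        exact (QuotientGroup.eq_one_iff _).2 (PGroup.commutatorElement_mem_frattini hEp a b) }
  have hVp : ∀ v : E ⧸ frattini E, v ^ p = 1 := fun v => QuotientGroup.induction_on v fun v =>
    (QuotientGroup.eq_one_iff _).2 (PGroup.pow_mem_frattini hEp v)
  let res : MulAut E →* MulAut (E ⧸ frattini E) := RankTwo.quotientAut (frattini E)
  let Act : Resist.Act p F E (E ⧸ frattini E) :=
    { res := res
      faithful := fun α _ hc hα => eq_one_of_frattini hEp hc hα }
  obtain ⟨-, -, hIn, M₀, hM₀⟩ := id hE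
  haveI := hIn
  let A := F.autGroup E
  let I := (Cfsg.Inn E).subgroupOf A
  obtain ⟨instM, σ, hσ⟩ := HallHigman.exists_linear_rep hVp (res.comp A.subtype)
  letI := instM
  have hIσ : ∀ α : A, α ∈ I → σ α = 1 := by
    rintro ⟨α, hα⟩ ⟨e, rfl⟩
    refine LinearMap.ext fun v => ?_
    obtain ⟨w, rfl⟩ := QuotientGroup.mk_surjective (Additive.toMul v)
    show σ _ (Additive.ofMul (w : E ⧸ frattini E)) = _
    rw [hσ]
    show Additive.ofMul (((MulAut.conj e w : E)) : E ⧸ frattini E) = _
    rw [MulAut.conj_apply, QuotientGroup.mk_mul, QuotientGroup.mk_mul, QuotientGroup.mk_inv, mul_comm,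
      inv_mul_cancel_left]
    rfl
  let ρ : A ⧸ I →* Module.End (ZMod p) (Additive (E ⧸ frattini E)) := QuotientGroup.lift I σ hIσ
  have hρi : Function.Injective ρ := by
    refine (injective_iff_map_eq_one ρ).2 fun q hq => ?_
    obtain ⟨α, rfl⟩ := QuotientGroup.mk_surjective q
    refine (QuotientGroup.eq_one_iff _).2 (Act.ker_le_inn hS hE α.2 (MulEquiv.ext fun v => ?_))
    have h := hσ α v
    rw [show σ α = 1 from hq] at h
    exact (Additive.ofMul.injective h).symm
  let R : Rep p (A ⧸ I) (Additive (E ⧸ frattini E)) :=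
    { three := three
      card := by rw [← hrk, Subgroup.index_eq_card]; exact Nat.card_congr Additive.ofMul.symm
      ρ := ρ
      inj := hρi
      M := M₀
      emb := hM₀ }
  let nc : S →* A := ((normConj S E).comp (MonoidHom.mk' (toN hnS) fun a b => Subtype.ext rfl)).codRestrict A
    fun g => (Resist.normConj_mem F hES _).2
  let χ : S →* A ⧸ I := (QuotientGroup.mk' I).comp nc
  have hχ1 : ∀ n : S, χ n = 1 ↔ n ∈ En := fun n => by
    refine (QuotientGroup.eq_one_iff (nc n)).trans ?_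
    refine ⟨fun h => Resist.mem_of_inn hE (g := toN hnS n) h, fun h => ?_⟩
    show normConj S E (toN hnS n) ∈ Cfsg.Inn E
    exact ⟨⟨n, h⟩, MulEquiv.ext fun _ => Subtype.ext rfl⟩
  have hfr : ∀ e : En, φ e ∈ frattini E ↔ e ∈ frattini En := fun e => by
    rw [← PGroup.frattini_map (f := φ.toMonoidHom) (hS.to_subgroup En) φ.surjective]
    exact Subgroup.mem_map_iff_mem φ.injective
  let D : Model p S En (A ⧸ I) (Additive (E ⧸ frattini E)) :=
    { R := R
      proj := fun e => Additive.ofMul ((φ e : E) : E ⧸ frattini E)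
      proj_mul := fun a b => by rw [map_mul, QuotientGroup.mk_mul]; rfl
      proj_eq_zero := fun e => by
        rw [← hfr, ← QuotientGroup.eq_one_iff]
        exact Additive.ofMul.injective.eq_iff' rfl
      proj_surj := fun w => by
        obtain ⟨e, he⟩ := QuotientGroup.mk_surjective (Additive.toMul w)
        refine ⟨φ.symm e, ?_⟩
        show Additive.ofMul ((φ (φ.symm e) : E) : E ⧸ frattini E) = w
        rw [φ.apply_symm_apply, he]; rfl
      χ := χ
      χ_eq_one := hχ1
      act := fun n e => by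
        show σ (nc n) (Additive.ofMul _) = _
        rw [hσ]
        rfl
      lift := fun q => by
        obtain ⟨α, rfl⟩ := QuotientGroup.mk_surjective q
        refine ⟨(φ.trans (α : MulAut E)).trans φ.symm, fun e => ?_⟩
        show σ α (Additive.ofMul _) = _
        rw [hσ]
        show _ = Additive.ofMul ((φ (φ.symm ((α : MulAut E) (φ e))) : E) : E ⧸ frattini E)
        rw [φ.apply_symm_apply]
        rfl }
  have hrange : IsPGroup p χ.range := hS.of_surjective χ.rangeRestrict χ.rangeRestrict_surjective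
  have hcard : Nat.card χ.range = p := by
    obtain ⟨x, hx, hxE⟩ := SetLike.exists_of_lt (Resist.lt_of_essential hS hF hE)
    refine le_antisymm (R.card_pgroup_le hrange) ?_
    haveI : Nontrivial χ.range := (Subgroup.nontrivial_iff_ne_bot _).2 fun h =>
      hxE ((hχ1 ⟨x, hx⟩).1 (Subgroup.mem_bot.1 (h ▸ ⟨_, rfl⟩ : χ ⟨x, hx⟩ ∈ (⊥ : Subgroup _))))
    obtain ⟨n, hn, hc⟩ := hrange.nontrivial_iff_card.1 ‹_›
    exact hc ▸ Nat.le_self_pow hn.ne' p
  refine ⟨hEnn, _, inferInstance, inferInstance, _, inferInstance, instM, ⟨{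
    D := D
    le := hES
    norm := hnS
    q := QuotientGroup.mk' I
    q_surj := QuotientGroup.mk'_surjective I
    q_ker := fun α h => Subgroup.mem_subgroupOf.1 ((QuotientGroup.eq_one_iff α).1 h)
    q_act := fun α e e' h => by
      show σ α (Additive.ofMul _) = _
      rw [hσ]
      exact congrArg Additive.ofMul (congrArg QuotientGroup.mk (Subtype.ext h))
    q_conj := fun s h => rfl
    range_card := hcard }⟩⟩

theorem exists_ess3 (five : 5 ≤ p) (hS : IsPGroup p S) (hsr : Cfsg.SectionalPRankLE p 3 S)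
    (hF : F.IsSaturated p) {E : Subgroup Ω} (hE : F.IsEssential p E) (hrk : (frattini E).index = p ^ 3) :
    ∃ (_ : (E.subgroupOf S).Normal) (G : Type u) (_ : Group G) (_ : Finite G) (W : Type u)
      (_ : AddCommGroup W) (_ : Module (ZMod p) W), Nonempty (Ess3 (p := p) F E G W) :=
  exists_ess3_of_normal (by omega) hS hF hE hrk (normal_of_essential five hS hsr hF hE hrk)

variable {E : Subgroup Ω} [(E.subgroupOf S).Normal] {G : Type u} [Group G] [Finite G] {W : Type u}
  [AddCommGroup W] [Module (ZMod p) W] (d : Ess3 (p := p) F E G W)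

namespace Ess3

include d

/-- Generation of `S` over `E`. -/
theorem hgen {x : S} (hx : x ∉ E.subgroupOf S) (n : S) : ∃ i : ℕ, (x ^ i)⁻¹ * n ∈ E.subgroupOf S := by
  have htop : Subgroup.zpowers (⟨d.D.χ x, x, rfl⟩ : d.D.χ.range) = ⊤ :=
    zpowers_eq_top_of_prime_card d.range_card fun h => hx ((d.D.χ_eq_one x).1 (congrArg Subtype.val h))
  obtain ⟨i, hi⟩ := mem_powers_iff_mem_zpowers.2 (htop ▸ Subgroup.mem_top (⟨d.D.χ n, n, rfl⟩ : d.D.χ.range))
  refine ⟨i, (d.D.χ_eq_one _).1 ?_⟩
  rw [map_mul, map_inv, map_pow, inv_mul_eq_one]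
  exact congrArg Subtype.val hi

theorem range_eq {x : S} (hx : x ∉ E.subgroupOf S) : d.D.χ.range = Subgroup.zpowers (d.D.χ x) := by
  refine le_antisymm ?_ (Subgroup.zpowers_le.2 ⟨x, rfl⟩)
  rintro _ ⟨n, rfl⟩
  obtain ⟨i, hi⟩ := d.hgen hx n
  have h := (d.D.χ_eq_one _).2 hi
  rw [map_mul, map_inv, map_pow, inv_mul_eq_one] at h
  exact h ▸ pow_mem (Subgroup.mem_zpowers _) i

theorem hxp (x : S) : x ^ p ∈ E.subgroupOf S := by
  refine (d.D.χ_eq_one _).1 ?_
  have h := orderOf_dvd_natCard (⟨d.D.χ x, x, rfl⟩ : d.D.χ.range)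
  rw [d.range_card, orderOf_dvd_iff_pow_eq_one] at h
  rw [map_pow]
  exact congrArg Subtype.val h

theorem exists_pk (x : S) (hS : IsPGroup p S) : ∃ k : ℕ, d.D.χ x ^ p ^ k = 1 := by
  obtain ⟨k, hk⟩ := hS x
  exact ⟨k, by rw [← map_pow, hk, map_one]⟩

/-- An automorphism normalizing the image of `S` extends to `S`. -/
theorem exists_tau (hS : IsPGroup p S) (hF : F.IsSaturated p) (hE : F.IsEssential p E) {x : S}
    (hx : x ∉ E.subgroupOf S) (t : G) {n : ℕ} (ht : t * d.D.χ x * t⁻¹ = d.D.χ x ^ n) :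
    ∃ τ ∈ F.autGroup S, (∀ e ∈ E.subgroupOf S, τ e ∈ E.subgroupOf S) ∧
      (∀ (e : E.subgroupOf S) (h : τ e ∈ E.subgroupOf S), d.D.proj ⟨τ e, h⟩ = d.D.R.ρ t (d.D.proj e)) ∧
      (x ^ n)⁻¹ * τ x ∈ E.subgroupOf S := by
  have hES := d.le
  obtain ⟨α, hα⟩ := d.q_surj t
  have hnc : ∀ s, normConj S E (toN d.norm s) ∈ F.autGroup E := fun s => (Resist.normConj_mem F hES _).2
  have hlow : ∀ s : S, ∃ s' : S, d.D.χ s' = t * d.D.χ s * t⁻¹ := fun s => by
    obtain ⟨i, hi⟩ := d.hgen hx s
    refine ⟨(x ^ n) ^ i, ?_⟩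
    have h := (d.D.χ_eq_one _).2 hi
    rw [map_mul, map_inv, map_pow, inv_mul_eq_one] at h
    rw [map_pow, map_pow, ← ht, conj_pow, h]
  have hext : ∀ s : Ω, ∀ hs : s ∈ normalizerIn S E,
      (α : MulAut E) * normConj S E ⟨s, hs⟩ * (α : MulAut E)⁻¹ ∈ autInducedBy S E := by
    intro s hs
    obtain ⟨s', hs'⟩ := hlow ⟨s, hs.1⟩
    rw [← d.q_conj s' (hnc s'), ← d.q_conj ⟨s, hs.1⟩ (hnc _), ← hα, ← map_inv, ← map_mul, ← map_mul,
      ← inv_mul_eq_one, ← map_inv, ← map_mul] at hs'
    have h1 := d.q_ker _ hs'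
    have h2 := mul_mem (Resist.normConj_mem F hES (toN d.norm s')).1 (inn_le_autInducedBy hES h1)
    convert h2 using 1
    exact (mul_inv_cancel_left _ _).symm
  obtain ⟨f, hf, hfα⟩ := FusionChain.exists_extension (receptive_of_fullyNormalized hS hF hE.2.1) α.2
    (le_refl (normalizerIn S E)) hext
  have hSle : S ≤ normalizerIn S E := fun s hs => ⟨hs, d.norm hs⟩
  have hfS : IsMap F S f := hf.mono (hSle.trans le_sup_right)
  let τ : MulAut S := MulEquiv.ofBijective
    (MonoidHom.mk' (fun s : S => (⟨f s, hfS.mem s.2⟩ : S)) fun a b => Subtype.ext (hfS.map_mul a.2 b.2))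
    (Finite.injective_iff_bijective.1 fun a b h => Subtype.ext (hfS.inj a.2 b.2 (congrArg Subtype.val h)))
  refine ⟨τ, (mem_autGroup_iff le_rfl).2 (hfS.congr fun y hy => by rw [autFn_apply τ hy]; rfl),
    fun e he => ?_, fun e h => ?_, ?_⟩
  · show f (e : Ω) ∈ E
    rw [hfα (e : Ω) he]
    exact autFn_mem _ he
  · rw [← hα]
    refine (d.q_act α e ⟨τ e, h⟩ ?_).symm
    show _ = f ((e : S) : Ω)
    rw [hfα ((e : S) : Ω) e.2, autFn_apply (α : MulAut E) (show ((e : S) : Ω) ∈ E from e.2)]
  · refine (d.D.χ_eq_one _).1 ?_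
    obtain ⟨h1, h2⟩ := Resist.map_conj_eq hfS hES hfα (g := toN d.norm x) x.2
    rw [map_mul, map_inv, map_pow, inv_mul_eq_one, ← ht, ← hα, ← d.q_conj x (hnc x),
      ← d.q_conj (τ x) (hnc _), ← map_inv, ← map_mul, ← map_mul]
    exact congrArg d.q (Subtype.ext h2.symm)

end Ess3

end Cfsg.Agent.SectionalThree
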